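import Cfsg.Agent.H75.CSy.Solvable

/-!
The configuration `DihBad`.
-/

set_option autoImplicit false
set_option linter.unusedSectionVars false
set_option linter.style.haveILetI false

open Cfsg Subgroup H76.CSy H68

namespace H75.CSy

universe u

variable {G : Type u} [Group G] [Finite G]

namespace Cfg

variable {S : Sylow 2 G} {c : G} {h : Cfg S c} {p : ℕ} {y τ : G}

theorem Inv.dihBad (d : Inv h p y τ) (hs : Group.IsSolvable (centralizer ({y} : Set G))) :
    Nonempty (DihBad G) := by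
  haveI : Fact (Nat.Prime 2) := ⟨Nat.prime_two⟩
  haveI : Fact p.Prime := ⟨d.prime⟩
  obtain ⟨hc4, hτO, hU⟩ := d.four_case hs
  set t := dz c with ht
  set H := centralizer ({y} : Set G) with hH
  set N := normalizer (zpowers y : Set G) with hN
  set R := Nat.card (core c) with hR
  have htc : c ^ 2 = t := by rw [ht, dz, hc4]
  have ht2 : orderOf t = 2 := h.dih.dz_two
  have hτ2 : orderOf τ = 2 := H65.two_iff.2 ⟨d.ττ, fun e => d.τ_out (e ▸ one_mem _)⟩
  have htτ : t * τ = τ * t := (h.dih.dz_comm d.τ_mem).symm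
  set U := h.dih.four d.τ_mem d.τ_out with hUdef
  have hmU := fun {z : G} => h.dih.mem_four d.τ_mem d.τ_out (g := z)
  have hUS : U ≤ (S : Subgroup G) := h.dih.four_le d.τ_mem d.τ_out
  have hUcard : Nat.card U = 4 := (h.dih.isKleinFour_four d.τ_mem d.τ_out).card_four
  have hU4 : ∀ u ∈ U, Commute u y ∧ Commute u t ∧ Commute u τ := by
    intro u hu
    have hty : Commute t y := (core_comm d.mem).symm
    rcases hmU.1 hu with rfl | rfl | rfl | rfl
    exacts [⟨Commute.one_left _, Commute.one_left _, Commute.one_left _⟩,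
      ⟨hty, Commute.refl _, htτ⟩, ⟨d.τ_comm, htτ.symm, Commute.refl _⟩,
      ⟨hty.mul_left d.τ_comm, (Commute.refl t).mul_left (htτ.symm),
        (show Commute t τ from htτ).mul_left (Commute.refl _)⟩]
  have hOt : ∀ o ∈ core c, Commute o t := fun o ho => core_comm ho
  have hOy : ∀ o ∈ core c, Commute o y := fun o ho => h.core_commute d.free ho d.mem
  have hdisj : ∀ x ∈ core c, x ∈ U → x = 1 := fun x hx hxU => h.disj hx (hUS hxU)
  have hoH : core c ≤ H := fun o ho => mem_centralizer_singleton_iff.2 (hOy o ho).eq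
  have hUH : U ≤ H := fun u hu => mem_centralizer_singleton_iff.2 (hU4 u hu).1.eq
  -- `c` inverts the core
  have hcinv : ∀ o ∈ core c, c * o * c⁻¹ = o⁻¹ := by
    intro o ho
    have hcc : c * (c * o * c⁻¹) * c⁻¹ = o := by
      rw [show c * (c * o * c⁻¹) * c⁻¹ = c ^ 2 * o * (c ^ 2)⁻¹ by rw [pow_two]; group, htc]
      exact cj_eq_iff_commute.2 (hOt o ho).symm
    refine eq_inv_of_mul_eq_one_left (d.free _ (mul_mem (h.core_cj h.dih.mem ho) ho) ?_)
    have hcz : Commute c (c * o * c⁻¹ * o) := cj_eq_iff_commute.1 (by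
      calc c * (c * o * c⁻¹ * o) * c⁻¹ = c * (c * o * c⁻¹) * c⁻¹ * (c * o * c⁻¹) := by group
        _ = o * (c * o * c⁻¹) := by rw [hcc]
        _ = c * o * c⁻¹ * o := (h.core_commute d.free ho (h.core_cj h.dih.mem ho)).eq)
    have hτz : Commute τ (c * o * c⁻¹ * o) :=
      (hτO _ (mul_mem (h.core_cj h.dih.mem ho) ho)).symm
    intro s hs
    refine h.of_reflections (P := fun s => Commute s (c * o * c⁻¹ * o))
      (fun _ _ ha hb => ha.mul_left hb) (fun x hx hxA => ?_) hs
    obtain ⟨i, hi⟩ := mem_zpowers_iff.1 (h.dih.idx τ d.τ_mem x hx d.τ_out hxA)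
    rw [show x = τ * c ^ i by rw [hi, ← mul_assoc, d.ττ, one_mul]]
    exact hτz.mul_left (hcz.zpow_left i)
  have hσA : c * τ ∉ zpowers c := fun e =>
    d.τ_out (((zpowers c).mul_mem_cancel_left (mem_zpowers c)).1 e)
  have hσS : c * τ ∈ (S : Subgroup G) := mul_mem h.dih.mem d.τ_mem
  have hσy : c * τ * y * (c * τ)⁻¹ = y⁻¹ := by
    rw [show c * τ * y * (c * τ)⁻¹ = c * (τ * y * τ⁻¹) * c⁻¹ by group,
      cj_eq_iff_commute.2 d.τ_comm, d.inv]
  have hστ : τ * c * τ⁻¹ = c⁻¹ := by
    have := h.dih.conj_zpow' d.τ_mem d.τ_out 1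
    rwa [zpow_one, zpow_neg, zpow_one] at this
  have hnc : ¬ Commute (c * τ) τ := fun e => by
    have h1 : Commute c τ := by
      have := e.mul_left (Commute.refl τ)
      rwa [mul_assoc, d.ττ, mul_one] at this
    rw [cj_eq_iff_commute.2 h1.symm, ← mul_eq_one_iff_eq_inv, ← pow_two] at hστ
    have := Nat.le_of_dvd two_pos (orderOf_dvd_of_pow_eq_one hστ)
    omega
  -- the centraliser of `t` and `τ`
  have hVdec : ∀ g, Commute g t → Commute g τ → ∃ o ∈ core c, ∃ w ∈ U, o * w = g := by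
    intro g hgt hgτ
    obtain ⟨o, ho, -, s, hs, rfl⟩ :=
      d.cent_four (mem_centralizer_singleton_iff.2 hgt.eq) hgτ
    exact ⟨o, ho, s, hmU.2 hs, rfl⟩
  have hmem2 : ∀ g x : G,
      g ∈ centralizer ({c ^ 2, x} : Set G) ↔ Commute g t ∧ Commute g x := by
    intro g x
    rw [htc, mem_centralizer_iff]
    simp only [Set.mem_insert_iff, Set.mem_singleton_iff, forall_eq_or_imp, forall_eq]
    exact ⟨fun e => ⟨e.1.symm, e.2.symm⟩, fun e => ⟨e.1.eq.symm, e.2.eq.symm⟩⟩
  have hcardV : Nat.card (centralizer ({c ^ 2, τ} : Set G)) = 4 * R := by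
    rw [mul_comm, hR, ← hUcard]
    refine card_of_decomp (fun o ho => (hmem2 o τ).2 ⟨hOt o ho, hτO o ho⟩)
      (fun u hu => (hmem2 u τ).2 (hU4 u hu).2) hdisj fun g hg => ?_
    exact hVdec g ((hmem2 g τ).1 hg).1 ((hmem2 g τ).1 hg).2
  -- conjugation in `C(y)` permutes the four-group
  have hpermU : ∀ g ∈ H, ∀ u ∈ U, g * u * g⁻¹ ∈ U := by
    intro g hg u hu
    by_cases hu1 : u = 1
    · subst hu1; simp
    have hu2 : orderOf u = 2 := H65.two_iff.2
      ⟨klein_sub_mul_self' (h.dih.isKleinFour_four d.τ_mem d.τ_out) hu, hu1⟩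
    rcases hU (g * u * g⁻¹) (by rw [← MulAut.conj_apply, MulEquiv.orderOf_eq]; exact hu2)
      (conj_commute (centralizer_le_normalizer _
        (by rw [zpowers_eq_closure, centralizer_closure]; exact hg)) (hU4 u hu).1) with e | e | e
    exacts [hmU.2 (Or.inr (Or.inl e)), hmU.2 (Or.inr (Or.inr (Or.inl e))),
      hmU.2 (Or.inr (Or.inr (Or.inr e)))]
  -- `C(t) ∩ C(y)` centralises `τ`
  have hHt : ∀ g ∈ H, Commute g t → Commute g τ := by
    intro g hg hgt
    obtain ⟨o, ho, s, hs, rfl⟩ := h.decomp (mem_centralizer_singleton_iff.2 hgt.eq)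
    refine (hτO o ho).mul_left ?_
    have hsy : Commute s y := by
      have := (hOy o ho).inv_left.mul_left (mem_centralizer_singleton_iff.1 hg)
      rwa [inv_mul_cancel_left] at this
    have hcc : Commute (c * c) τ := by rw [← pow_two, htc]; exact htτ
    obtain ⟨i, e | e⟩ := d.mem_D hs hsy <;> rw [e]
    · exact hcc.zpow_left i
    · exact (Commute.refl τ).mul_left (hcc.zpow_left i)
  have hstab : Nat.card (H ⊓ centralizer ({t} : Set G) : Subgroup G) = 4 * R := by
    rw [mul_comm, hR, ← hUcard]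
    refine card_of_decomp (fun o ho => ⟨hoH ho, core_le ho⟩)
      (fun u hu => ⟨hUH hu, mem_centralizer_singleton_iff.2 (hU4 u hu).2.1.eq⟩) hdisj fun g hg => ?_
    exact hVdec g (mem_centralizer_singleton_iff.1 hg.2)
      (hHt g hg.1 (mem_centralizer_singleton_iff.1 hg.2))
  have horb : Nat.card {u : G // ∃ g ∈ H, g * t * g⁻¹ = u} = 3 := by
    obtain ⟨b, hb, hbτ⟩ := d.tri_conj
    obtain ⟨b', hb', htri⟩ := d.exists_tri
    have hbH : b⁻¹ ∈ H := mem_centralizer_singleton_iff.2 hb.inv_left.eq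
    have hb'H : b' ∈ H := mem_centralizer_singleton_iff.2 hb'.eq
    have hset : {u : G | ∃ g ∈ H, g * t * g⁻¹ = u} = {t, τ, t * τ} := by
      ext u
      simp only [Set.mem_ofPred_eq, Set.mem_insert_iff, Set.mem_singleton_iff]
      constructor
      · rintro ⟨g, hg, rfl⟩
        exact hU _ (by rw [← MulAut.conj_apply, MulEquiv.orderOf_eq]; exact ht2)
          (conj_commute (centralizer_le_normalizer _
            (by rw [zpowers_eq_closure, centralizer_closure]; exact hg)) (core_comm d.mem).symm)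
      · rintro (e0 | e0 | e0) <;> rw [e0]
        · exact ⟨1, one_mem _, by group⟩
        · exact ⟨b⁻¹, hbH, by rw [show t = b * τ * b⁻¹ from hbτ.symm]; group⟩
        · rcases htri with ⟨e, -⟩ | ⟨e, e'⟩
          · exact ⟨b', hb'H, e⟩
          · refine ⟨b' * b', mul_mem hb'H hb'H, ?_⟩
            calc b' * b' * t * (b' * b')⁻¹ = b' * (b' * dz c * b'⁻¹) * b'⁻¹ := by group; rfl
              _ = t * τ := by rw [e, e']
    show Nat.card ({u : G | ∃ g ∈ H, g * t * g⁻¹ = u} : Set G) = 3
    rw [hset, Nat.card_coe_set_eq, Set.ncard_eq_three]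
    refine ⟨t, τ, t * τ, ?_, ?_, ?_, rfl⟩
    · exact fun e => d.τ_out (e ▸ h.dih.dz_mem_zpowers)
    · exact fun e => (H65.ne_one_of_two hτ2) (mul_left_cancel ((mul_one t).trans e)).symm
    · exact fun e => (H65.ne_one_of_two ht2) (mul_right_cancel ((one_mul τ).trans e)).symm
  have hcardH : Nat.card H = 12 * R := by
    have := card_conj_mul H t
    rw [horb, hstab] at this
    omega
  have hHN : H ≤ N := fun g hg => centralizer_le_normalizer _
    (by rw [zpowers_eq_closure, centralizer_closure]; exact hg)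
  have hcN : c ∈ N := h.S_normalizes d.free (h.S_le h.dih.mem) d.mem
  have hrelN : H.relIndex N = 2 := by
    rw [relIndex, index_eq_two_iff]
    refine ⟨⟨c, hcN⟩, fun ⟨b, hb⟩ => ?_⟩
    simp only [mem_subgroupOf, MulMemClass.mk_mul_mk, hH, mem_centralizer_singleton_iff]
    rcases d.pm hb with e | e
    · refine Or.inr ⟨e.eq, fun e' => d.not_commute ?_⟩
      have := e.inv_left.mul_left (show Commute (b * c) y from e')
      rwa [inv_mul_cancel_left] at this
    · refine Or.inl ⟨(cj_eq_iff_commute.1 ?_ : Commute (b * c) y).eq, fun e' => ?_⟩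
      · calc b * c * y * (b * c)⁻¹ = b * (c * y * c⁻¹) * b⁻¹ := by group
          _ = (b * y * b⁻¹)⁻¹ := by rw [d.inv]; group
          _ = y := by rw [e, inv_inv]
      · rw [cj_eq_iff_commute.2 e', ← mul_eq_one_iff_eq_inv] at e
        exact d.ne_one (eq_one_of_sq_of_odd e (core_odd' d.mem))
  have hcardN : Nat.card N = 24 * R := by
    have h1 := (H.subgroupOf N).card_mul_index
    rw [← relIndex, hrelN, Nat.card_congr (subgroupOfEquivOfLe hHN).toEquiv, hcardH] at h1
    omega
  have hinvN : ∀ i : G, i * y * i⁻¹ = y⁻¹ → i ∈ N := fun i hi => mem_normalizer_iff' fun x hx => by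
    obtain ⟨j, rfl⟩ := mem_zpowers_iff.1 hx
    rw [← conj_zpow, hi]
    exact zpow_mem (inv_mem (mem_zpowers y)) _
  have hSN : (S : Subgroup G) ≤ N := fun s hs => h.S_normalizes d.free (h.S_le hs) d.mem
  set U' := h.dih.four hσS hσA with hU'def
  have hmU' := fun {z : G} => h.dih.mem_four hσS hσA (g := z)
  have hσ2 : orderOf (c * τ) = 2 :=
    H65.two_iff.2 ⟨h.dih.invol _ hσS hσA, fun e => hσA (e ▸ one_mem _)⟩
  have hU'c : ∀ u ∈ U', Commute u t ∧ Commute u (c * τ) := by
    intro u hu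
    have hts : Commute t (c * τ) := (h.dih.dz_comm hσS).symm
    rcases hmU'.1 hu with rfl | rfl | rfl | rfl
    exacts [⟨Commute.one_left _, Commute.one_left _⟩, ⟨Commute.refl _, hts⟩,
      ⟨hts.symm, Commute.refl _⟩, ⟨(Commute.refl t).mul_left hts.symm,
        hts.mul_left (Commute.refl _)⟩]
  have hU'dec : ∀ g, Commute g t → Commute g (c * τ) → g ∈ U' := by
    intro g hgt hgσ
    obtain ⟨o, ho, s, hs, rfl⟩ := h.decomp (mem_centralizer_singleton_iff.2 hgt.eq)
    obtain ⟨h1, h2⟩ := h.decomp_comm ho hs hσS hgσ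
    have e1 : c * τ * o * (c * τ)⁻¹ = o⁻¹ := by
      rw [show c * τ * o * (c * τ)⁻¹ = c * (τ * o * τ⁻¹) * c⁻¹ by group,
        cj_eq_iff_commute.2 (hτO o ho).symm, hcinv o ho]
    rw [cj_eq_iff_commute.2 h1.symm, ← mul_eq_one_iff_eq_inv] at e1
    rw [eq_one_of_sq_of_odd e1 (core_odd' ho), one_mul]
    have key : ∀ v ∈ (S : Subgroup G), v ∈ zpowers c → Commute v (c * τ) → v = 1 ∨ v = t := by
      intro v hv hvA hvσ
      obtain ⟨i, rfl⟩ := mem_zpowers_iff.1 hvA
      have h3 := h.dih.conj_zpow' hσS hσA i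
      rw [cj_eq_iff_commute.2 hvσ.symm, zpow_neg, ← mul_eq_one_iff_eq_inv] at h3
      by_cases h4 : c ^ i = 1
      · exact Or.inl h4
      · exact Or.inr (h.dih.dz_unique (H65.two_iff.2 ⟨h3, h4⟩) hvA)
    by_cases hsA : s ∈ zpowers c
    · rcases key s hs hsA h2 with e | e
      exacts [hmU'.2 (Or.inl e), hmU'.2 (Or.inr (Or.inl e))]
    · have e : s = s * (c * τ) * (c * τ) := by
        rw [mul_assoc, h.dih.invol _ hσS hσA, mul_one]
      rcases key _ (mul_mem hs hσS) (h.dih.idx s hs _ hσS hsA hσA)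
        (h2.mul_left (Commute.refl _)) with h5 | h5
      · exact hmU'.2 (Or.inr (Or.inr (Or.inl (by rw [e, h5, one_mul]))))
      · exact hmU'.2 (Or.inr (Or.inr (Or.inr (by rw [e, h5]))))
  have hU'card : Nat.card U' = 4 := (h.dih.isKleinFour_four hσS hσA).card_four
  have hcardσ : Nat.card (centralizer ({c ^ 2, c * τ} : Set G)) = 4 := by
    rw [show centralizer ({c ^ 2, c * τ} : Set G) = U' from le_antisymm
      (fun g hg => hU'dec g ((hmem2 g _).1 hg).1 ((hmem2 g _).1 hg).2)
      (fun g hg => (hmem2 g _).2 (hU'c g hg)), hU'card]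
  -- the involutions inverting `y`
  have hinvc : invCount G y = 6 * R := by
    have hstabN : (N ⊓ centralizer ({c * τ} : Set G) : Subgroup G) = U' := by
      refine le_antisymm (fun g hg => ?_) (fun g hg => ⟨hSN (h.dih.four_le hσS hσA hg),
        mem_centralizer_singleton_iff.2 (hU'c g hg).2.eq⟩)
      have hgσ : Commute g (c * τ) := mem_centralizer_singleton_iff.1 hg.2
      refine hU'dec g ?_ hgσ
      have hts : Commute t (c * τ) := (h.dih.dz_comm hσS).symm
      have hcm := cjc (g := g) hts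
      rw [cj_eq_iff_commute.2 hgσ] at hcm
      rcases hU (g * t * g⁻¹) (by rw [← MulAut.conj_apply, MulEquiv.orderOf_eq]; exact ht2)
        (conj_commute hg.1 (core_comm d.mem).symm) with e | e | e
      · exact cj_eq_iff_commute.1 e
      · exact absurd (show Commute (c * τ) τ from e ▸ hcm.symm) hnc
      · refine absurd ?_ hnc
        have h2 : Commute (c * τ) (t * τ) := e ▸ hcm.symm
        have := (hts.symm.inv_right).mul_right h2
        rwa [inv_mul_cancel_left] at this
    have hset : {i : G | orderOf i = 2 ∧ i * y * i⁻¹ = y⁻¹}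
        = {u : G | ∃ g ∈ N, g * (c * τ) * g⁻¹ = u} := by
      ext i
      simp only [Set.mem_ofPred_eq]
      constructor
      · rintro ⟨hi, hiy⟩
        obtain ⟨b, hb, hbi⟩ := exists_cj_le_of_sylow (S.subtype hSN) (IsPGroup.of_card (n := 1)
          (by rw [Nat.card_zpowers, hi, pow_one]) : IsPGroup 2 (zpowers i))
          (zpowers_le.2 (hinvN i hiy))
        rw [Sylow.coe_subtype, subgroupOf_map_subtype, inf_eq_left.2 hSN] at hbi
        set v := b * i * b⁻¹ with hv
        have hvS : v ∈ (S : Subgroup G) := hbi ⟨i, mem_zpowers i, rfl⟩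
        have hv2 : orderOf v = 2 := by rw [hv, ← MulAut.conj_apply, MulEquiv.orderOf_eq]; exact hi
        have hvy : ¬ Commute v y := by
          intro e
          have h1 := conj_commute (inv_mem hb) e
          rw [hv, show b⁻¹ * (b * i * b⁻¹) * b⁻¹⁻¹ = i by group] at h1
          rw [cj_eq_iff_commute.2 h1, ← mul_eq_one_iff_eq_inv] at hiy
          exact d.ne_one (eq_one_of_sq_of_odd hiy (core_odd' d.mem))
        have hvA : v ∉ zpowers c := fun e => hvy (by
          rw [h.dih.dz_unique hv2 e]; exact (core_comm d.mem).symm)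
        obtain ⟨k, hk⟩ := mem_zpowers_iff.1 (h.dih.idx τ d.τ_mem v hvS d.τ_out hvA)
        have hv' : v = τ * c ^ k := by rw [hk, ← mul_assoc, d.ττ, one_mul]
        rcases Int.even_or_odd k with ⟨m, hm⟩ | ⟨m, hm⟩
        · refine absurd ?_ hvy
          rw [hv', hm, ← two_mul, zpow_mul, zpow_two]
          exact d.τ_comm.mul_left (d.commute_sq.zpow_left m)
        · refine ⟨b⁻¹ * (c ^ (m + 1))⁻¹,
            mul_mem (inv_mem hb) (inv_mem (zpow_mem hcN _)), ?_⟩
          have h1 : c ^ (m + 1) * v * (c ^ (m + 1))⁻¹ = c * τ := by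
            have h2 := h.dih.zpow_mul_comm' d.τ_mem d.τ_out (-(m + 1))
            have h3 := h.dih.zpow_mul_comm' d.τ_mem d.τ_out (-1)
            rw [neg_neg] at h2
            rw [neg_neg, zpow_one] at h3
            rw [hv', ← mul_assoc, ← h2, ← h3, ← zpow_neg, mul_assoc, mul_assoc, ← zpow_add,
              ← zpow_add]
            congr 2
            omega
          rw [← h1, hv]
          group
      · rintro ⟨g, hg, rfl⟩
        refine ⟨by rw [← MulAut.conj_apply, MulEquiv.orderOf_eq]; exact hσ2, ?_⟩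
        obtain ⟨j, hj⟩ := mem_zpowers_iff.1
          ((mem_normalizer_iff.1 (inv_mem hg) y).1 (mem_zpowers y))
        rw [inv_inv] at hj
        calc g * (c * τ) * g⁻¹ * y * (g * (c * τ) * g⁻¹)⁻¹
            = g * (c * τ * (g⁻¹ * y * g) * (c * τ)⁻¹) * g⁻¹ := by group
          _ = g * (g⁻¹ * y * g)⁻¹ * g⁻¹ := by rw [← hj, ← conj_zpow, hσy, inv_zpow]
          _ = y⁻¹ := by group
    have h1 := card_conj_mul N (c * τ)
    rw [hstabN, hU'card, hcardN] at h1
    rw [invCount]
    show Nat.card ({i : G | orderOf i = 2 ∧ i * y * i⁻¹ = y⁻¹} : Set G) = 6 * R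
    rw [hset]
    show Nat.card {u : G // ∃ g ∈ N, g * (c * τ) * g⁻¹ = u} = 6 * R
    omega
  -- the Sylow `p`-subgroup
  obtain ⟨P, hP⟩ := (IsPGroup.of_card (n := 1)
    (by rw [Nat.card_zpowers, d.ord, pow_one]) : IsPGroup p (zpowers y)).exists_le_sylow
  have hyP : y ∈ (P : Subgroup G) := hP (mem_zpowers y)
  have hcyc := h.hyp.odd p d.prime d.odd P
  have hPH : (P : Subgroup G) ≤ H := fun x hx =>
    mem_centralizer_singleton_iff.2 (centralizes_of_isCyclic hcyc hx hyP).eq
  have hpR : p ∣ R := d.ord ▸ Subgroup.orderOf_dvd_natCard _ d.mem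
  have hRpos : 0 < R := Nat.card_pos
  have hcardc : Nat.card (centralizer ({c} : Set G)) = 4 := by
    rw [← hc4, ← Nat.card_zpowers]
    congr 2
    refine le_antisymm (fun g hg => ?_) (zpowers_le.2 (mem_centralizer_singleton_iff.2 rfl))
    have hgc : Commute g c := mem_centralizer_singleton_iff.1 hg
    obtain ⟨o, ho, s, hs, rfl⟩ := h.decomp (mem_centralizer_singleton_iff.2 (hgc.pow_right _).eq)
    obtain ⟨h1, h2⟩ := h.decomp_comm ho hs h.dih.mem hgc
    have e1 := hcinv o ho
    rw [cj_eq_iff_commute.2 h1.symm, ← mul_eq_one_iff_eq_inv] at e1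
    rw [eq_one_of_sq_of_odd e1 (core_odd' ho), one_mul]
    by_contra hsA
    have h3 := h.dih.conj_zpow' hs hsA 1
    rw [zpow_one, zpow_neg, zpow_one, cj_eq_iff_commute.2 h2, ← mul_eq_one_iff_eq_inv,
      ← pow_two] at h3
    have := Nat.le_of_dvd two_pos (orderOf_dvd_of_pow_eq_one h3)
    omega
  refine ⟨{
    p := p, hp := d.prime, hp2 := d.odd, R := R
    hR := ?_, hpR := hpR, P := P, cyc := hcyc
    relIndex_two := by rw [relIndex_sylow P hcyc hyP d.ne_one]; exact hrelN
    y := y, y_mem := hyP, y_ord := d.ord, S := S, σ := c, τ := τ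
    σ_mem := h.dih.mem, τ_mem := d.τ_mem, σ_ord := hc4, τ_ord := hτ2, rel := hστ
    gen := ?_, one := htc ▸ h.one, comm := htc ▸ (core_comm d.mem).symm, inv_y := d.inv
    card_ct := by rw [htc, h.card_ct, hc4]
    card_ctau := hcardV, card_cst := hcardσ, card_cy := hcardH, inv_count := hinvc
    card_cs := hcardc, y_core := ?_, P_core := ?_, card_P3 := ?_ }⟩
  · have hp2 := d.odd
    have := d.prime.two_le
    have := Nat.le_of_dvd hRpos hpR
    omega
  · refine le_antisymm ((closure_le _).2 ?_) (fun s hs => ?_)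
    · rintro _ (rfl | rfl)
      exacts [h.dih.mem, d.τ_mem]
    · have hcm : c ∈ closure ({c, τ} : Set G) := subset_closure (Or.inl rfl)
      by_cases hsA : s ∈ zpowers c
      · exact zpowers_le.2 hcm hsA
      · have e : s = s * τ * τ := by rw [mul_assoc, d.ττ, mul_one]
        rw [e]
        exact mul_mem (zpowers_le.2 hcm (h.dih.idx s hs τ d.τ_mem hsA d.τ_out))
          (subset_closure (Or.inr rfl))
  · rw [htc]; exact d.mem
  · intro hp3 x hx
    rw [htc]
    show x ∈ core c
    -- the core is normal in `C(y)`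
    haveI hn : ((core c).subgroupOf H).Normal := by
      refine ⟨fun a ha g => ?_⟩
      show (g : G) * a * (g : G)⁻¹ ∈ core c
      refine h.odd_mem (mem_centralizer_singleton_iff.2 ?_)
        (by rw [← MulAut.conj_apply, MulEquiv.orderOf_eq]; exact core_odd' ha)
      have h1 := hpermU _ (inv_mem g.2) t (hmU.2 (Or.inr (Or.inl rfl)))
      rw [inv_inv] at h1
      have hcomm : Commute (a : G) ((g : G)⁻¹ * t * g) := by
        rcases hmU.1 h1 with e | e | e | e <;> rw [e]
        exacts [Commute.one_right _, hOt _ ha, hτO _ ha, (hOt _ ha).mul_right (hτO _ ha)]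
      have h2 := cjc (g := (g : G)) hcomm
      rw [show (g : G) * ((g : G)⁻¹ * t * g) * (g : G)⁻¹ = t by group] at h2
      exact h2.eq
    have hidx : ((core c).subgroupOf H).index = 12 := by
      have h1 := ((core c).subgroupOf H).card_mul_index
      rw [Nat.card_congr (subgroupOfEquivOfLe hoH).toEquiv, hcardH, ← hR, mul_comm 12] at h1
      exact Nat.eq_of_mul_eq_mul_left hRpos h1
    have h12 := ((core c).subgroupOf H).pow_index_mem ⟨x, hPH hx⟩
    rw [hidx] at h12
    refine mem_of_pow_coprime ?_ (show x ^ 12 ∈ core c from h12)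
    obtain ⟨k, hk⟩ := IsPGroup.iff_orderOf.1 P.2 ⟨x, hx⟩
    rw [Subgroup.orderOf_mk] at hk
    rw [hk]
    refine Nat.Coprime.pow_right k ?_
    rw [show (12 : ℕ) = 2 ^ 2 * 3 by norm_num]
    exact Nat.Coprime.mul_left
      (((Nat.coprime_primes Nat.prime_two d.prime).2 (Ne.symm d.odd)).pow_left 2)
      ((Nat.coprime_primes Nat.prime_three d.prime).2 (Ne.symm hp3))
  · intro hp3
    have h3R : 3 ∣ R := hp3 ▸ hpR
    have h9 : p ^ 2 ∣ Nat.card G := by
      refine dvd_trans ?_ (card_subgroup_dvd_card H)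
      rw [hcardH, hp3, show (3 : ℕ) ^ 2 = 3 * 3 by norm_num]
      exact Nat.mul_dvd_mul (by norm_num) h3R
    have := Nat.le_of_dvd Nat.card_pos (P.pow_dvd_card_of_pow_dvd_card h9)
    have h9' : p ^ 2 = 9 := by rw [hp3]; norm_num
    omega
where
  klein_sub_mul_self' {U : Subgroup G} (hU : IsKleinFour U) {u : G} (hu : u ∈ U) : u * u = 1 :=
    congrArg Subtype.val (IsKleinFour.mul_self (G := U) ⟨u, hu⟩)

end Cfg

end H75.CSy
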