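import Cfsg.Agent.H65.DihedralSylow
import Cfsg.Agent.H70.SL2Facts
import Mathlib.GroupTheory.SpecificGroups.ZGroup
import Mathlib.NumberTheory.Basic

/-!
General lemmas on cyclic subgroups of prime power order and their normalisers.
-/

set_option autoImplicit false
set_option linter.unusedSectionVars false
set_option linter.style.haveILetI false

namespace H75.CSy

open Subgroup

variable {G : Type*} [Group G]

theorem mem_of_pow {K : Subgroup G} {n : G} {a b : ℕ} (h : Nat.Coprime a b)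
    (ha : n ^ a ∈ K) (hb : n ^ b ∈ K) : n ∈ K := by
  have e : (a : ℤ) * Nat.gcdA a b + (b : ℤ) * Nat.gcdB a b = 1 := by
    rw [← Nat.gcd_eq_gcd_ab, h.gcd_eq_one, Nat.cast_one]
  rw [← zpow_one n, ← e, zpow_add, zpow_mul, zpow_mul, zpow_natCast, zpow_natCast]
  exact mul_mem (zpow_mem ha _) (zpow_mem hb _)

theorem mem_of_pow_coprime {K : Subgroup G} {n : G} {a : ℕ} (h : Nat.Coprime a (orderOf n))
    (ha : n ^ a ∈ K) : n ∈ K :=
  mem_of_pow h ha (by rw [pow_orderOf_eq_one]; exact one_mem _)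

/-- Conjugation by `g` maps commuting pairs to commuting pairs. -/
theorem cjc {g x y : G} (h : Commute x y) : Commute (g * x * g⁻¹) (g * y * g⁻¹) := by
  show g * x * g⁻¹ * (g * y * g⁻¹) = g * y * g⁻¹ * (g * x * g⁻¹)
  rw [show g * x * g⁻¹ * (g * y * g⁻¹) = g * (x * y) * g⁻¹ by group, h.eq]
  group

theorem cj_eq_iff_commute {g x : G} : g * x * g⁻¹ = x ↔ Commute g x :=
  mul_inv_eq_iff_eq_mul

theorem conj_pow_iterate {g x : G} {r : ℤ} (h : g * x * g⁻¹ = x ^ r) (n : ℕ) :
    g ^ n * x * (g ^ n)⁻¹ = x ^ (r ^ n) := by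
  induction n with
  | zero => simp
  | succ n ih =>
    calc g ^ (n + 1) * x * (g ^ (n + 1))⁻¹ = g * (g ^ n * x * (g ^ n)⁻¹) * g⁻¹ := by
          rw [pow_succ']; group
      _ = (g * x * g⁻¹) ^ (r ^ n) := by rw [ih, conj_zpow]
      _ = x ^ (r ^ (n + 1)) := by rw [h, ← zpow_mul, pow_succ']

theorem odd_of_dvd {a b : ℕ} (hb : Odd b) (h : a ∣ b) : Odd a := hb.of_dvd_nat h

theorem odd_orderOf_of_mem [Finite G] {H : Subgroup G} (hH : Odd (Nat.card H)) {x : G}
    (hx : x ∈ H) : Odd (orderOf x) := hH.of_dvd_nat (Subgroup.orderOf_dvd_natCard H hx)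

theorem odd_card_of_orderOf [Finite G] {H : Subgroup G} (h : ∀ x ∈ H, Odd (orderOf x)) :
    Odd (Nat.card H) := by
  rw [← Nat.not_even_iff_odd, even_iff_two_dvd]
  intro h2
  haveI : Fact (Nat.Prime 2) := ⟨Nat.prime_two⟩
  obtain ⟨x, hx⟩ := exists_prime_orderOf_dvd_card' (G := H) 2 h2
  have := h x x.2
  rw [Subgroup.orderOf_coe, hx] at this
  exact absurd this (by decide)

theorem eq_one_of_sq_of_odd {x : G} (h : x * x = 1) (ho : Odd (orderOf x)) : x = 1 := by
  rw [← pow_two] at h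
  rw [← orderOf_eq_one_iff]
  exact Nat.eq_one_of_dvd_coprimes (Nat.coprime_two_left.2 ho) (orderOf_dvd_of_pow_eq_one h) dvd_rfl

theorem eq_one_of_odd_of_two_pow {x : G} (ho : Odd (orderOf x)) {k : ℕ} (hk : x ^ 2 ^ k = 1) :
    x = 1 := by
  rw [← orderOf_eq_one_iff]
  exact Nat.eq_one_of_dvd_coprimes ((Nat.coprime_two_left.2 ho).pow_left k)
    (orderOf_dvd_of_pow_eq_one hk) dvd_rfl

/-- An involution acting trivially on an odd quotient and an odd subgroup acts trivially. -/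
theorem commute_of_invol {x f a : G} (hx : x * x = 1) (h1 : x * f * x⁻¹ = f * a)
    (h2 : x * a * x⁻¹ = a) (ho : Odd (orderOf a)) : x * f * x⁻¹ = f := by
  have h3 : x * (x * f * x⁻¹) * x⁻¹ = f := by
    rw [show x * (x * f * x⁻¹) * x⁻¹ = (x * x) * f * (x * x)⁻¹ by group, hx]; group
  rw [h1, show x * (f * a) * x⁻¹ = (x * f * x⁻¹) * (x * a * x⁻¹) by group, h1, h2, mul_assoc,
    mul_eq_left] at h3
  rw [h1, eq_one_of_sq_of_odd h3 ho, mul_one]

/-- A subgroup of a cyclic group is determined by the order of a generator. -/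
theorem zpowers_eq_of_orderOf [Finite G] {P : Subgroup G} (hP : IsCyclic P) {a b : G} (ha : a ∈ P)
    (hb : b ∈ P) (h : orderOf a = orderOf b) : zpowers a = zpowers b := by
  suffices key : ∀ a b : G, a ∈ P → b ∈ P → orderOf a = orderOf b → a ∈ zpowers b from
    le_antisymm (zpowers_le.2 (key a b ha hb h)) (zpowers_le.2 (key b a hb ha h.symm))
  clear h ha hb a b
  intro a b ha hb h
  classical
  haveI := Fintype.ofFinite P
  haveI := hP
  have hle : zpowers b ≤ P := zpowers_le.2 hb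
  have hsub : Finset.univ.filter (fun x : P => (x : G) ∈ zpowers b) ⊆
      Finset.univ.filter (fun x : P => x ^ orderOf b = 1) := by
    intro x hx
    rw [Finset.mem_filter] at hx ⊢
    exact ⟨hx.1, Subtype.ext (orderOf_dvd_iff_pow_eq_one.1 (orderOf_dvd_of_mem_zpowers hx.2))⟩
  have hcard : (Finset.univ.filter (fun x : P => (x : G) ∈ zpowers b)).card = orderOf b := by
    rw [← Nat.card_zpowers, ← Nat.card_congr (Subgroup.subgroupOfEquivOfLe hle).toEquiv,
      Nat.card_eq_fintype_card, Fintype.card_subtype]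
    simp [Subgroup.mem_subgroupOf]
  have := Finset.eq_of_subset_of_card_le hsub
    ((IsCyclic.card_pow_eq_one_le (orderOf_pos b)).trans hcard.ge)
  have hxm : (⟨a, ha⟩ : P) ∈ Finset.univ.filter (fun x : P => (x : G) ∈ zpowers b) :=
    this ▸ Finset.mem_filter.2 ⟨Finset.mem_univ _, Subtype.ext (h ▸ pow_orderOf_eq_one a)⟩
  exact (Finset.mem_filter.1 hxm).2

theorem mem_normalizer_iff' [Finite G] {P : Subgroup G} {g : G}
    (h : ∀ x ∈ P, g * x * g⁻¹ ∈ P) : g ∈ normalizer (P : Set G) := by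
  rw [mem_normalizer_iff]
  refine fun x => ⟨h x, fun hx => ?_⟩
  have hinj : Function.Injective (fun a : P => (⟨g * a * g⁻¹, h a a.2⟩ : P)) := fun a b hab =>
    Subtype.ext (mul_left_cancel (mul_right_cancel (congrArg Subtype.val hab)))
  obtain ⟨a, ha⟩ := (Finite.injective_iff_surjective.1 hinj) ⟨_, hx⟩
  have := congrArg Subtype.val ha
  exact (mul_left_cancel (mul_right_cancel this)) ▸ a.2

theorem cj_mem {P : Subgroup G} {g x : G} (hg : g ∈ normalizer (P : Set G)) (hx : x ∈ P) :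
    g * x * g⁻¹ ∈ P := (mem_normalizer_iff.1 hg x).1 hx

theorem normalizer_zpowers_of_cyclic [Finite G] {P : Subgroup G} (hP : IsCyclic P) {g y : G}
    (hg : g ∈ normalizer (P : Set G)) (hy : y ∈ P) : g ∈ normalizer (zpowers y : Set G) := by
  refine mem_normalizer_iff' fun x hx => ?_
  obtain ⟨i, rfl⟩ := mem_zpowers_iff.1 hx
  rw [← conj_zpow]
  refine zpow_mem ?_ _
  rw [zpowers_eq_of_orderOf hP hy (cj_mem hg hy) (by rw [← MulAut.conj_apply, MulEquiv.orderOf_eq])]
  exact mem_zpowers _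

section PGroup

variable [Finite G] {p : ℕ} [hp : Fact p.Prime]

/-- An element normalising a cyclic `p`-group and fixing a nontrivial element has a `p`-power
centralising the group. -/
theorem pow_mem_centralizer {P : Subgroup G} (hcyc : IsCyclic P) (hPp : IsPGroup p P) {v x : G}
    (hv : v ∈ normalizer (P : Set G)) (hx : x ∈ P) (hx1 : x ≠ 1) (hvx : Commute v x) :
    ∃ d : ℕ, v ^ p ^ d ∈ centralizer (P : Set G) := by
  obtain ⟨y, hy⟩ := (Subgroup.isCyclic_iff_exists_zpowers_eq_top P).1 hcyc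
  have hyP : y ∈ P := hy ▸ mem_zpowers y
  obtain ⟨d, hd⟩ := IsPGroup.iff_orderOf.1 hPp ⟨y, hyP⟩
  rw [Subgroup.orderOf_mk] at hd
  obtain ⟨a, ha⟩ := mem_zpowers_iff.1 (hy.symm ▸ cj_mem hv hyP : v * y * v⁻¹ ∈ zpowers y)
  obtain ⟨j, rfl⟩ := mem_zpowers_iff.1 (hy.symm ▸ hx : x ∈ zpowers y)
  have hdvd : (orderOf y : ℤ) ∣ (a - 1) * j := by
    rw [orderOf_dvd_iff_zpow_eq_one, sub_mul, one_mul, zpow_sub, zpow_mul, ha, conj_zpow,
      hvx.eq, mul_inv_cancel_right, mul_inv_cancel]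
  have hj : ¬ (orderOf y : ℤ) ∣ j := fun h => hx1 (orderOf_dvd_iff_zpow_eq_one.1 h)
  have hpa : (p : ℤ) ∣ a - 1 := by
    by_contra hna
    refine hj (IsCoprime.dvd_of_dvd_mul_left ?_ hdvd)
    rw [hd, Nat.cast_pow]
    exact (((Nat.prime_iff_prime_int.1 hp.out).coprime_iff_not_dvd).2 hna).pow_left
  have hone : ((p : ℤ) ^ (d + 1)) ∣ a ^ (p ^ d) - 1 := by
    simpa using dvd_sub_pow_of_dvd_sub (R := ℤ) (p := p) (a := a) (b := 1) hpa d
  have hfix : y ^ (a ^ (p ^ d)) = y := by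
    conv_rhs => rw [← zpow_one y]
    rw [zpow_eq_zpow_iff_modEq]
    exact (Int.modEq_iff_dvd.2 (dvd_trans (by rw [hd, Nat.cast_pow])
      ((pow_dvd_pow _ (Nat.le_succ d)).trans hone))).symm
  have hcomm : Commute (v ^ p ^ d) y :=
    mul_inv_eq_iff_eq_mul.1 ((conj_pow_iterate ha.symm _).trans hfix)
  refine ⟨d, mem_centralizer_iff.2 fun w hw => ?_⟩
  obtain ⟨i, rfl⟩ := mem_zpowers_iff.1 (hy.symm ▸ hw : w ∈ zpowers y)
  exact (hcomm.zpow_right i).symm.eq

theorem mem_centralizer_of_coprime {P : Subgroup G} (hcyc : IsCyclic P) (hPp : IsPGroup p P)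
    {v x : G} (hv : v ∈ normalizer (P : Set G)) (hx : x ∈ P) (hx1 : x ≠ 1) (hvx : Commute v x)
    (hcop : (orderOf v).Coprime p) : v ∈ centralizer (P : Set G) := by
  obtain ⟨d, hd⟩ := pow_mem_centralizer hcyc hPp hv hx hx1 hvx
  exact mem_of_pow_coprime (hcop.symm.pow_left d) hd

omit hp in
theorem centralizes_of_isCyclic {P : Subgroup G} (hcyc : IsCyclic P) {a b : G} (ha : a ∈ P)
    (hb : b ∈ P) : Commute a b := by
  obtain ⟨y, hy⟩ := (Subgroup.isCyclic_iff_exists_zpowers_eq_top P).1 hcyc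
  obtain ⟨i, rfl⟩ := mem_zpowers_iff.1 (hy.symm ▸ ha : a ∈ zpowers y)
  obtain ⟨j, rfl⟩ := mem_zpowers_iff.1 (hy.symm ▸ hb : b ∈ zpowers y)
  exact (Commute.refl y).zpow_zpow i j

omit hp in
theorem le_centralizer_of_cyclic {P : Subgroup G} (hcyc : IsCyclic P) :
    P ≤ centralizer (P : Set G) := fun _ ha =>
  mem_centralizer_iff.2 fun _ hb => (centralizes_of_isCyclic hcyc hb ha).eq

/-- In the normaliser of a cyclic Sylow subgroup, fixing a nontrivial element is centralising. -/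
theorem mem_centralizer_of_sylow (P : Sylow p G) (hcyc : IsCyclic (P : Subgroup G)) {v x : G}
    (hv : v ∈ normalizer ((P : Subgroup G) : Set G)) (hx : x ∈ (P : Subgroup G)) (hx1 : x ≠ 1)
    (hvx : Commute v x) : v ∈ centralizer ((P : Subgroup G) : Set G) := by
  obtain ⟨d, hd⟩ := pow_mem_centralizer hcyc P.isPGroup' hv hx hx1 hvx
  set N := normalizer ((P : Subgroup G) : Set G) with hN
  haveI : ((P : Subgroup G).subgroupOf N).Normal := normal_in_normalizer
  have hndvd : ¬ p ∣ ((P : Subgroup G).subgroupOf N).index := fun h =>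
    P.not_dvd_index (h.trans (relIndex_dvd_index_of_le le_normalizer))
  refine mem_of_pow ((hp.out.coprime_iff_not_dvd.2 hndvd).pow_left d) hd
    (le_centralizer_of_cyclic hcyc ?_)
  have := ((P : Subgroup G).subgroupOf N).pow_index_mem ⟨v, hv⟩
  simpa [mem_subgroupOf] using this

omit hp in
/-- An involution normalising a cyclic subgroup of odd prime power order inverts or centralises
it. -/
theorem invol_pm {P : Subgroup G} (hcyc : IsCyclic P) {x : G} (hp2 : p.Prime ∧ p ≠ 2)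
    (hPp : IsPGroup p P) (hx : x * x = 1) (hN : x ∈ normalizer (P : Set G)) :
    (∀ a ∈ P, x * a * x⁻¹ = a) ∨ ∀ a ∈ P, x * a * x⁻¹ = a⁻¹ := by
  haveI : Fact p.Prime := ⟨hp2.1⟩
  obtain ⟨y, hy⟩ := (Subgroup.isCyclic_iff_exists_zpowers_eq_top P).1 hcyc
  have hyP : y ∈ P := hy ▸ mem_zpowers y
  have hsq : x * (x * y * x⁻¹) * x⁻¹ = y := by
    rw [show x * (x * y * x⁻¹) * x⁻¹ = (x * x) * y * (x * x)⁻¹ by group, hx]; group
  have hd : Odd (orderOf y) := by
    obtain ⟨d, hd⟩ := IsPGroup.iff_orderOf.1 hPp ⟨y, hyP⟩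
    rw [Subgroup.orderOf_mk] at hd
    exact hd ▸ ((hp2.1.odd_of_ne_two hp2.2).pow)
  have gen : ∀ z : G, x * y * x⁻¹ = z → ∀ a ∈ P, ∃ i : ℤ, a = y ^ i ∧ x * a * x⁻¹ = z ^ i := by
    intro z hz a ha
    obtain ⟨i, rfl⟩ := mem_zpowers_iff.1 (hy.symm ▸ ha : a ∈ zpowers y)
    exact ⟨i, rfl, by rw [← conj_zpow, hz]⟩
  by_cases hfix : x * y * x⁻¹ = y⁻¹
  · exact Or.inr fun a ha => by
      obtain ⟨i, hi, h⟩ := gen _ hfix a ha
      rw [h, hi, inv_zpow]
  left
  set w := y * (x * y * x⁻¹) with hw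
  have hwP : w ∈ P := mul_mem hyP (cj_mem hN hyP)
  have hw1 : w ≠ 1 := fun h => hfix (eq_inv_of_mul_eq_one_right h)
  have hxw : Commute x w := cj_eq_iff_commute.1 (by
    rw [hw, show x * (y * (x * y * x⁻¹)) * x⁻¹ = (x * y * x⁻¹) * (x * (x * y * x⁻¹) * x⁻¹) by group,
      hsq]
    exact (centralizes_of_isCyclic hcyc (cj_mem hN hyP) hyP).eq)
  have hord : (orderOf x).Coprime p :=
    Nat.Coprime.coprime_dvd_left (orderOf_dvd_of_pow_eq_one (n := 2) (by rw [pow_two]; exact hx))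
      ((Nat.coprime_primes Nat.prime_two hp2.1).2 (Ne.symm hp2.2))
  have := mem_centralizer_of_coprime hcyc hPp hN hwP hw1 hxw hord
  exact fun a ha => cj_eq_iff_commute.2 (mem_centralizer_iff.1 this a ha).symm

end PGroup

/-- Elements normalising `⟨y⟩` have commutators centralising `y`. -/
theorem commutator_commute {y a b : G} (ha : a ∈ normalizer (zpowers y : Set G))
    (hb : b ∈ normalizer (zpowers y : Set G)) : Commute (a * b * a⁻¹ * b⁻¹) y := by
  obtain ⟨i, hi⟩ := mem_zpowers_iff.1 (cj_mem ha (mem_zpowers y))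
  obtain ⟨j, hj⟩ := mem_zpowers_iff.1 (cj_mem hb (mem_zpowers y))
  have h1 : (a * b) * y * (a * b)⁻¹ = (b * a) * y * (b * a)⁻¹ := by
    calc (a * b) * y * (a * b)⁻¹ = a * (b * y * b⁻¹) * a⁻¹ := by group
      _ = y ^ (i * j) := by rw [← hj, ← conj_zpow, ← hi, zpow_mul]
      _ = b * (a * y * a⁻¹) * b⁻¹ := by rw [← hi, ← conj_zpow, ← hj, mul_comm i j, zpow_mul]
      _ = _ := by group
  refine cj_eq_iff_commute.1 ?_
  have h2 : ∀ u : G, (a * b * a⁻¹ * b⁻¹) * u * (a * b * a⁻¹ * b⁻¹)⁻¹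
      = (a * b) * ((b * a)⁻¹ * u * (b * a)) * (a * b)⁻¹ := fun u => by group
  calc (a * b * a⁻¹ * b⁻¹) * y * (a * b * a⁻¹ * b⁻¹)⁻¹
      = (a * b) * ((b * a)⁻¹ * y * (b * a)) * (a * b)⁻¹ := h2 y
    _ = (b * a) * ((b * a)⁻¹ * y * (b * a)) * (b * a)⁻¹ := by
        obtain ⟨k, hk⟩ := mem_zpowers_iff.1 ((mem_normalizer_iff.1 (mul_mem hb ha)
          ((b * a)⁻¹ * y * (b * a))).2 (by
            rw [show b * a * ((b * a)⁻¹ * y * (b * a)) * (b * a)⁻¹ = y by group]
            exact mem_zpowers y))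
        rw [← hk, ← conj_zpow, ← conj_zpow, h1]
    _ = y := by group

/-- `N(⟨y⟩)` normalises `C(y)`. -/
theorem conj_commute {y g x : G} (hg : g ∈ normalizer (zpowers y : Set G)) (hx : Commute x y) :
    Commute (g * x * g⁻¹) y := by
  obtain ⟨i, hi⟩ := mem_zpowers_iff.1 ((mem_normalizer_iff.1 (inv_mem hg) y).1 (mem_zpowers y))
  rw [inv_inv] at hi
  have : y = g * y ^ i * g⁻¹ := by rw [hi]; group
  rw [this]
  exact cjc (hx.zpow_right i)

theorem normalizer_le_normalizer_centralizer [Finite G] {y g : G}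
    (hg : g ∈ normalizer (zpowers y : Set G)) :
    g ∈ normalizer (centralizer ({y} : Set G) : Set G) :=
  mem_normalizer_iff' fun _ hx => mem_centralizer_singleton_iff.2
    (conj_commute hg (mem_centralizer_singleton_iff.1 hx)).eq

section Sylow

variable [Finite G] {p : ℕ} [Fact p.Prime]

/-- Frattini argument. -/
theorem frattini (P : Sylow p G) {H : Subgroup G} (hPH : (P : Subgroup G) ≤ H) {g : G}
    (hg : g ∈ normalizer (H : Set G)) :
    ∃ h ∈ H, h * g ∈ normalizer ((P : Subgroup G) : Set G) := by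
  have hle : ((g • P : Sylow p G) : Subgroup G) ≤ H := by
    rintro _ ⟨x, hx, rfl⟩
    exact cj_mem hg (hPH hx)
  obtain ⟨h, hh⟩ := MulAction.exists_smul_eq H ((g • P).subtype hle) (P.subtype hPH)
  rw [Sylow.smul_subtype hle h] at hh
  have h3 : (h : G) • g • P = P := Sylow.subtype_injective hh
  rw [← mul_smul, Sylow.smul_eq_iff_mem_normalizer] at h3
  exact ⟨h, h.2, h3⟩

theorem not_normalizer_le_centralizer [IsSimpleGroup G] (hna : ¬ IsMulCommutative G)
    (P : Sylow p G) (hcyc : IsCyclic (P : Subgroup G)) (hne : (P : Subgroup G) ≠ ⊥) :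
    ¬ normalizer ((P : Subgroup G) : Set G) ≤ centralizer ((P : Subgroup G) : Set G) := by
  intro hN
  have hc := MonoidHom.ker_transferSylow_isComplement' P hN
  rcases (inferInstance : (MonoidHom.transferSylow P hN).ker.Normal).eq_bot_or_eq_top with h | h
  · rw [h] at hc
    have hT : (P : Subgroup G) = ⊤ := by simpa using hc
    exact hna ⟨⟨fun a b => centralizes_of_isCyclic hcyc (hT ▸ mem_top a) (hT ▸ mem_top b)⟩⟩
  · rw [h] at hc
    exact hne (by simpa using hc)

/-- The automiser of a cyclic Sylow subgroup is that of its subgroup of order `p`. -/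
theorem relIndex_sylow (P : Sylow p G) (hcyc : IsCyclic (P : Subgroup G)) {y : G}
    (hy : y ∈ (P : Subgroup G)) (hy1 : y ≠ 1) :
    (centralizer ((P : Subgroup G) : Set G)).relIndex (normalizer ((P : Subgroup G) : Set G)) =
      (centralizer ({y} : Set G)).relIndex (normalizer (zpowers y : Set G)) := by
  set NP := normalizer ((P : Subgroup G) : Set G) with hNP
  set NY := normalizer (zpowers y : Set G) with hNY
  set C := centralizer ({y} : Set G) with hC
  have hinf : C ⊓ NP = centralizer ((P : Subgroup G) : Set G) := by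
    refine le_antisymm (fun v hv => mem_centralizer_of_sylow P hcyc hv.2 hy hy1
      (mem_centralizer_singleton_iff.1 hv.1)) (le_inf (fun v hv => ?_) (centralizer_le_normalizer _))
    exact mem_centralizer_singleton_iff.2 (mem_centralizer_iff.1 hv y hy).symm
  have hPY : NP ≤ NY := fun g hg => normalizer_zpowers_of_cyclic hcyc hg hy
  have hPC : (P : Subgroup G) ≤ C := fun x hx =>
    mem_centralizer_singleton_iff.2 (centralizes_of_isCyclic hcyc hx hy).eq
  rw [← hinf, inf_relIndex_right, relIndex, relIndex]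
  set C' := C.subgroupOf NY with hC'
  haveI : C'.Normal := normal_subgroupOf_of_le_normalizer
    (fun g hg => normalizer_le_normalizer_centralizer hg)
  let f : NP →* NY ⧸ C' := (QuotientGroup.mk' C').comp (inclusion hPY)
  have hker : f.ker = C.subgroupOf NP := by
    ext v
    rw [MonoidHom.mem_ker, MonoidHom.comp_apply, QuotientGroup.mk'_apply, QuotientGroup.eq_one_iff]
    simp [hC', mem_subgroupOf]
  have hsurj : Function.Surjective f := by
    intro q
    obtain ⟨⟨g, hg⟩, rfl⟩ := QuotientGroup.mk_surjective q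
    obtain ⟨h, hh, hhg⟩ := frattini P hPC (normalizer_le_normalizer_centralizer hg)
    refine ⟨⟨h * g, hhg⟩, ?_⟩
    rw [MonoidHom.comp_apply, QuotientGroup.mk'_apply]
    refine QuotientGroup.eq.2 ?_
    show ((h * g)⁻¹ * g) ∈ C
    rw [show (h * g)⁻¹ * g = g⁻¹ * h⁻¹ * g by group]
    have := (mem_normalizer_iff.1 (normalizer_le_normalizer_centralizer (inv_mem hg)) h⁻¹).1
      (inv_mem hh)
    rwa [inv_inv] at this
  rw [← hker, index_ker, MonoidHom.range_eq_top.2 hsurj, card_top, ← index_eq_card]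

theorem isCyclic_of_isPGroup (h : ∀ P : Sylow p G, IsCyclic P) {Q : Subgroup G}
    (hQ : IsPGroup p Q) : IsCyclic Q := by
  obtain ⟨P, hP⟩ := hQ.exists_le_sylow
  haveI := h P
  exact Subgroup.isCyclic_of_le hP

end Sylow

/-- A group of odd order whose odd Sylow subgroups are cyclic is a Z-group. -/
theorem isZGroup_of_odd [Finite G] (h : ∀ p : ℕ, p.Prime → p ≠ 2 → ∀ P : Sylow p G, IsCyclic P)
    (H : Subgroup G) (hH : Odd (Nat.card H)) : IsZGroup H := by
  refine ⟨fun p hp P => ?_⟩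
  haveI : Fact p.Prime := ⟨hp⟩
  by_cases hp2 : p = 2
  · subst hp2
    have h1 : Nat.card P = 1 := by
      obtain ⟨k, hk⟩ := P.2.exists_card_eq
      rcases Nat.eq_zero_or_pos k with rfl | hk0
      · simpa using hk
      · exact absurd ((dvd_pow_self 2 hk0.ne').trans (hk ▸ (Subgroup.card_subgroup_dvd_card _)))
          (fun h2 => Nat.not_even_iff_odd.2 hH (even_iff_two_dvd.2 h2))
    haveI := (Nat.card_eq_one_iff_unique.1 h1).1
    infer_instance
  · haveI := isCyclic_of_isPGroup (h p hp hp2) (P.2.map H.subtype)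
    exact isCyclic_of_surjective
      ((P : Subgroup H).equivMapOfInjective _ H.subtype_injective).symm.toMonoidHom
      (MulEquiv.surjective _)

/-- The only involution of `SL₂` in odd characteristic. -/
theorem sl2_two_unique {r : ℕ} [Fact r.Prime] (hr : r ≠ 2) {L : Type*} [Group L]
    (e : L ≃* Matrix.SpecialLinearGroup (Fin 2) (ZMod r)) {a b : L} (ha : orderOf a = 2)
    (hb : orderOf b = 2) : a = b := by
  have h2 : (2 : ZMod r) ≠ 0 := by
    intro h
    have h' : ((2 : ℕ) : ZMod r) = 0 := by exact_mod_cast h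
    rw [ZMod.natCast_eq_zero_iff] at h'
    exact hr ((Nat.prime_dvd_prime_iff_eq Fact.out Nat.prime_two).1 h')
  apply e.injective
  rw [H70.sl2_eq_neg_one h2 (g := e a) (by rw [MulEquiv.orderOf_eq, ha]),
    H70.sl2_eq_neg_one h2 (g := e b) (by rw [MulEquiv.orderOf_eq, hb])]

end H75.CSy
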