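import Cfsg.Agent.H75.CSy.Basic
import Mathlib.GroupTheory.Transfer

/-!
The odd part of a subgroup with a Sylow `2`-subgroup controlled by its centraliser.
-/

set_option autoImplicit false
set_option linter.unusedSectionVars false
set_option linter.style.haveILetI false

open Subgroup

namespace H75.CSy

variable {G : Type*} [Group G] [Finite G]

/-- Burnside's transfer theorem for a subgroup, stated in the ambient group. -/
theorem exists_odd_complement {H : Subgroup G} (T : Sylow 2 H)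
    (hNC : normalizer ((T : Subgroup H) : Set H) ≤ centralizer ((T : Subgroup H) : Set H)) :
    ∃ K : Subgroup G, K ≤ H ∧ Odd (Nat.card K) ∧ H ≤ normalizer (K : Set G) ∧
      (∀ x ∈ H, Odd (orderOf x) → x ∈ K) ∧
      ∀ x ∈ H, ∃ k ∈ K, ∃ a ∈ (T : Subgroup H).map H.subtype, k * a = x := by
  haveI : Fact (Nat.Prime 2) := ⟨Nat.prime_two⟩
  obtain ⟨K₀, hn, hc⟩ : ∃ K₀ : Subgroup H, K₀.Normal ∧ K₀.IsComplement' (T : Subgroup H) :=
    ⟨_, inferInstance, MonoidHom.ker_transferSylow_isComplement' T hNC⟩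
  refine ⟨K₀.map H.subtype, map_subtype_le _, ?_, ?_, ?_, ?_⟩
  · rw [card_map_of_injective H.subtype_injective, ← hc.index_eq_card, ← Nat.not_even_iff_odd,
      even_iff_two_dvd]
    exact T.not_dvd_index
  · intro g hg
    refine mem_normalizer_iff' fun x hx => ?_
    obtain ⟨a, ha, rfl⟩ := hx
    exact ⟨⟨g, hg⟩ * a * ⟨g, hg⟩⁻¹, hn.conj_mem a ha _, rfl⟩
  · intro x hx ho
    obtain ⟨e, he⟩ := T.2.exists_card_eq
    haveI := hn
    refine ⟨⟨x, hx⟩, mem_of_pow_coprime (a := K₀.index) ?_ (K₀.pow_index_mem _), rfl⟩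
    rw [hc.symm.index_eq_card, he, Subgroup.orderOf_mk]
    exact (Nat.coprime_two_left.2 ho).pow_left e
  · intro x hx
    obtain ⟨⟨⟨k, hk⟩, ⟨a, ha⟩⟩, he⟩ := hc.2 ⟨x, hx⟩
    exact ⟨k, ⟨k, hk, rfl⟩, a, ⟨a, ha, rfl⟩, congrArg Subtype.val he⟩

end H75.CSy
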