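import Cfsg.Agent.H75.CSy.Split
import Cfsg.Agent.H75.CSy.Burnside
import Cfsg.Agent.H65.DihedralFinal
import Cfsg.Agent.H65.SmallSimple
import Cfsg.Agent.H37.SmallIso

/-!
When the rotation centralises the core, the group is `PSL(2,q)` with `q` prime.
-/

set_option autoImplicit false
set_option linter.unusedSectionVars false
set_option linter.style.haveILetI false

open Cfsg Subgroup H76.CSy H68

namespace H75.CSy

universe u

variable {G : Type u} [Group G] [Finite G]

theorem map_center {A B : Type*} [Group A] [Group B] (e : A ≃* B) :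
    (center A).map (e : A →* B) = center B := by
  ext b
  simp only [Subgroup.mem_map, mem_center_iff, MonoidHom.coe_coe]
  constructor
  · rintro ⟨a, ha, rfl⟩ b
    obtain ⟨a', rfl⟩ := e.surjective b
    rw [← map_mul, ← map_mul, ha]
  · intro hb
    obtain ⟨a, rfl⟩ := e.surjective b
    exact ⟨a, fun a' => e.injective (by rw [map_mul, map_mul]; exact hb _), rfl⟩

/-- The upper unitriangular matrices. -/
def upperHom (F : Type*) [Field F] : Multiplicative F →* Matrix.SpecialLinearGroup (Fin 2) F where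
  toFun a := ⟨!![1, Multiplicative.toAdd a; 0, 1], by simp [Matrix.det_fin_two]⟩
  map_one' := by
    apply Subtype.ext
    show (!![1, Multiplicative.toAdd (1 : Multiplicative F); 0, 1] : Matrix (Fin 2) (Fin 2) F) = 1
    rw [toAdd_one, Matrix.one_fin_two]
  map_mul' a b := by
    apply Subtype.ext
    show (!![1, Multiplicative.toAdd (a * b); 0, 1] : Matrix (Fin 2) (Fin 2) F) =
      !![1, Multiplicative.toAdd a; 0, 1] * !![1, Multiplicative.toAdd b; 0, 1]
    rw [Matrix.mul_fin_two, toAdd_mul]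
    simp [add_comm]

theorem upperHom_apply {F : Type*} [Field F] (a : Multiplicative F) :
    (upperHom F a : Matrix (Fin 2) (Fin 2) F) 0 1 = Multiplicative.toAdd a := rfl

theorem pgroup_odd {p : ℕ} (hp : p.Prime) (hp2 : p ≠ 2) {Q : Subgroup G} (hQ : IsPGroup p Q)
    {x : G} (hx : x ∈ Q) : Odd (orderOf x) := by
  haveI : Fact p.Prime := ⟨hp⟩
  obtain ⟨d, hd⟩ := IsPGroup.iff_orderOf.1 hQ ⟨x, hx⟩
  rw [Subgroup.orderOf_mk] at hd
  exact hd ▸ (hp.odd_of_ne_two hp2).pow

namespace Cfg

variable {S : Sylow 2 G} {c : G} (h : Cfg S c)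
include h

theorem fix_sylow (hR : h.Free) (hA : ∀ o ∈ core c, Commute c o)
    {y : G} (hy : y ∈ core c) (hy1 : y ≠ 1) {p : ℕ} (_hyp : orderOf y = p)
    (hinv : ∀ x ∈ (S : Subgroup G), x ∉ zpowers c → ∀ o ∈ core c, x * o * x⁻¹ = o⁻¹) :
    centralizer ({y} : Set G) ≤ centralizer ({dz c} : Set G) := by
  haveI : Fact (Nat.Prime 2) := ⟨Nat.prime_two⟩
  set t := dz c with ht
  set H := centralizer ({y} : Set G) with hH
  have hcH : zpowers c ≤ H := zpowers_le.2 (mem_centralizer_singleton_iff.2 (hA y hy).eq)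
  obtain ⟨k, -, hk⟩ := h.dih.ord
  obtain ⟨T, hT⟩ := (IsPGroup.of_card (n := k) (by
    rw [Nat.card_congr (subgroupOfEquivOfLe hcH).toEquiv, Nat.card_zpowers, hk]) :
    IsPGroup 2 ((zpowers c).subgroupOf H)).exists_le_sylow
  have hTeq : (T : Subgroup H).map H.subtype = zpowers c := by
    refine (eq_of_le_of_card_ge ?_ ?_).symm
    · intro x hx
      exact ⟨⟨x, hcH hx⟩, hT hx, rfl⟩
    · rw [Nat.card_zpowers]
      refine Nat.le_of_dvd (orderOf_pos c) (h.card_two_le hR hy hy1 (T.2.map _) ?_)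
      rintro _ ⟨a, -, rfl⟩
      exact mem_centralizer_singleton_iff.1 a.2
  have hTc : IsCyclic (T : Subgroup H) := by
    haveI : IsCyclic ((T : Subgroup H).map H.subtype) := by rw [hTeq]; infer_instance
    exact isCyclic_of_surjective
      ((T : Subgroup H).equivMapOfInjective _ H.subtype_injective).symm.toMonoidHom
      (MulEquiv.surjective _)
  have hmin : (Nat.card H).minFac = 2 := (Nat.minFac_eq_two_iff _).2 (by
    rw [← h.dih.dz_two]
    exact Subgroup.orderOf_dvd_natCard H (hcH h.dih.dz_mem_zpowers))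
  obtain ⟨K, hKH, hKodd, hKN, hKmem, hKdec⟩ :=
    exists_odd_complement T (IsCyclic.normalizer_le_centralizer hmin hTc)
  obtain ⟨x, hx, hxA⟩ := h.dih.exists_out
  have hxN : x ∈ normalizer (zpowers y : Set G) := mem_normalizer_iff' fun z hz => by
    obtain ⟨i, rfl⟩ := mem_zpowers_iff.1 hz
    rw [← conj_zpow, hinv x hx hxA y hy]
    exact zpow_mem (inv_mem (mem_zpowers y)) _
  have hxK : x ∈ normalizer (K : Set G) := mem_normalizer_iff' fun z hz =>
    hKmem _ (cj_mem (normalizer_le_normalizer_centralizer hxN) (hKH hz))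
      (by rw [← MulAut.conj_apply, MulEquiv.orderOf_eq]; exact odd_orderOf_of_mem hKodd hz)
  have htK : t ∈ normalizer (K : Set G) := hKN (hcH h.dih.dz_mem_zpowers)
  have hxx : x * x = 1 := h.dih.invol x hx hxA
  have htt : t * t = 1 := H65.mul_self_of_two h.dih.dz_two
  have hx2 : orderOf x = 2 := H65.two_iff.2 ⟨hxx, fun e => hxA (e ▸ one_mem _)⟩
  have htx2 : orderOf (t * x) = 2 := H65.two_iff.2 ⟨by
      rw [show t * x * (t * x) = t * (x * t) * x by group, h.dih.dz_comm hx,
        show t * (t * x) * x = (t * t) * (x * x) by group, htt, hxx, one_mul],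
    fun e => hxA (by
      rw [← inv_eq_of_mul_eq_one_right e]
      exact inv_mem h.dih.dz_mem_zpowers)⟩
  set U := h.dih.four hx hxA with hU
  have hmemU := fun {g : G} => h.dih.mem_four hx hxA (g := g)
  have hUK : U ≤ normalizer (K : Set G) := fun g hg => by
    rcases hmemU.1 hg with rfl | rfl | rfl | rfl
    exacts [one_mem _, htK, hxK, mul_mem htK hxK]
  have hUcop : (Nat.card U).Coprime (Nat.card K) := by
    rw [(h.dih.isKleinFour_four hx hxA).card_four, show 4 = 2 ^ 2 by norm_num]
    exact (Nat.coprime_two_left.2 hKodd).pow_left 2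
  have hMeq : K ⊓ centralizer ({t} : Set G) = K := by
    refine eq_of_sylow inf_le_left fun q hq => ?_
    haveI : Fact q.Prime := ⟨hq⟩
    obtain ⟨Q, hQ⟩ := H1.exists_invariant_sylow hUK hUcop (Or.inl (by
      haveI := (IsPGroup.of_card (n := 2) (h.dih.isKleinFour_four hx hxA).card_four :
        IsPGroup 2 U).isNilpotent
      infer_instance)) q
    refine ⟨Q, le_inf (map_subtype_le _) fun a ha => ?_⟩
    set Q' := (Q : Subgroup K).map K.subtype with hQ'
    have haK : a ∈ K := map_subtype_le _ ha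
    by_cases ha1 : a = 1
    · rw [ha1]; exact one_mem _
    by_cases hq2 : q = 2
    · subst hq2
      obtain ⟨j, hj⟩ := (Q.2.map K.subtype) ⟨a, ha⟩
      rw [eq_one_of_odd_of_two_pow (odd_orderOf_of_mem hKodd haK) (congrArg Subtype.val hj)]
      exact one_mem _
    have hQc : IsCyclic Q' := isCyclic_of_isPGroup (h.hyp.odd q hq hq2) (Q.2.map _)
    have htQ : t ∈ normalizer (Q' : Set G) := hQ (hmemU.2 (Or.inr (Or.inl rfl)))
    rcases invol_pm hQc ⟨hq, hq2⟩ (Q.2.map _) htt htQ with e | e
    · exact mem_centralizer_singleton_iff.2 (cj_eq_iff_commute.1 (e a ha)).symm.eq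
    exfalso
    -- an element of order `q` in the core
    have hdvd : q ∣ Nat.card (core c) := by
      obtain ⟨d, hd⟩ := IsPGroup.iff_orderOf.1 (Q.2.map K.subtype) ⟨a, ha⟩
      rw [Subgroup.orderOf_mk] at hd
      have hd0 : d ≠ 0 := fun e0 => ha1 (orderOf_eq_one_iff.1 (by rw [hd, e0, pow_zero]))
      refine dvd_trans (dvd_pow_self q hd0) ?_
      rw [← hd]
      rcases invol_pm hQc ⟨hq, hq2⟩ (Q.2.map _) hxx (hQ (hmemU.2 (Or.inr (Or.inr (Or.inl rfl)))))
        with e' | e'
      · exact h.dvd_card_core hx2 (cj_eq_iff_commute.1 (e' a ha)).symm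
          (odd_orderOf_of_mem hKodd haK)
      · refine h.dvd_card_core htx2 (cj_eq_iff_commute.1 ?_).symm (odd_orderOf_of_mem hKodd haK)
        calc t * x * a * (t * x)⁻¹ = t * (x * a * x⁻¹) * t⁻¹ := by group
          _ = (t * a * t⁻¹)⁻¹ := by rw [e' a ha]; group
          _ = a := by rw [e a ha, inv_inv]
    obtain ⟨⟨o, ho⟩, hoo⟩ := exists_prime_orderOf_dvd_card' (G := core c) q hdvd
    rw [Subgroup.orderOf_mk] at hoo
    have hoodd : Odd (orderOf o) := hoo ▸ hq.odd_of_ne_two hq2
    have hoK : o ∈ K :=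
      hKmem o (mem_centralizer_singleton_iff.2 (h.core_commute hR ho hy).eq) hoodd
    set M := K ⊓ normalizer (zpowers o : Set G) with hM
    have htM : zpowers t ≤ normalizer (M : Set G) := zpowers_le.2 (mem_normalizer_iff' fun z hz =>
      mem_inf.2 ⟨cj_mem htK hz.1, mul_mem (mul_mem (h.S_normalizes hR (h.S_le h.dih.dz_mem) ho) hz.2)
        (inv_mem (h.S_normalizes hR (h.S_le h.dih.dz_mem) ho))⟩)
    have htcop : ∀ N : Subgroup G, N ≤ K → (Nat.card (zpowers t)).Coprime (Nat.card N) := by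
      intro N hN
      rw [Nat.card_zpowers, h.dih.dz_two]
      exact Nat.coprime_two_left.2 (hKodd.of_dvd_nat (card_dvd_of_le hN))
    obtain ⟨R, hR'⟩ := H1.exists_invariant_sylow htM (htcop M inf_le_left)
      (Or.inl inferInstance) q
    set R' := (R : Subgroup M).map M.subtype with hRdef
    have hoM : o ∈ M := ⟨hoK, le_normalizer (mem_zpowers o)⟩
    have hoR : o ∈ R' := by
      refine ⟨⟨o, hoM⟩, ?_, rfl⟩
      have hoN : (⟨o, hoM⟩ : M) ∈ normalizer ((zpowers (⟨o, hoM⟩ : M)) : Set M) :=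
        le_normalizer (mem_zpowers _)
      have hp : IsPGroup q (zpowers (⟨o, hoM⟩ : M)) :=
        IsPGroup.of_card (n := 1) (by rw [Nat.card_zpowers, Subgroup.orderOf_mk, hoo, pow_one])
      have hle : (R : Subgroup M) ≤ normalizer ((zpowers (⟨o, hoM⟩ : M)) : Set M) := by
        intro r _
        refine mem_normalizer_iff' fun z hz => ?_
        obtain ⟨i, rfl⟩ := mem_zpowers_iff.1 hz
        obtain ⟨j, hj⟩ := mem_zpowers_iff.1
          (cj_mem (r.2.2 : (r : G) ∈ _) (zpow_mem (mem_zpowers o) i))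
        exact mem_zpowers_iff.2 ⟨j, Subtype.ext (by simpa using hj)⟩
      exact R.3 (R.2.to_sup_of_normal_right' hp hle) le_sup_left ▸ mem_sup_right (mem_zpowers _)
    -- a Sylow subgroup of `K` lies in `M`
    obtain ⟨Q₀, hQ₀⟩ := (IsPGroup.of_card (n := 1)
      (by rw [Nat.card_zpowers, Subgroup.orderOf_mk, hoo, pow_one]) :
      IsPGroup q (zpowers (⟨o, hoK⟩ : K))).exists_le_sylow
    have hQ₀M : (Q₀ : Subgroup K).map K.subtype ≤ M := by
      intro z hz
      refine ⟨map_subtype_le _ hz, centralizer_le_normalizer _ ?_⟩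
      rw [zpowers_eq_closure, centralizer_closure]
      exact mem_centralizer_singleton_iff.2 (centralizes_of_isCyclic
        (isCyclic_of_isPGroup (h.hyp.odd q hq hq2) (Q₀.2.map K.subtype)) hz
        ⟨_, hQ₀ (mem_zpowers _), rfl⟩).eq
    have hR'K : R' ≤ K := (map_subtype_le _).trans inf_le_left
    have hcardR : Nat.card (R'.subgroupOf K) = q ^ (Nat.card K).factorization q := by
      rw [Nat.card_congr (subgroupOfEquivOfLe hR'K).toEquiv]
      obtain ⟨m, hm⟩ := (R.2.map M.subtype).exists_card_eq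
      refine Nat.dvd_antisymm ?_ ?_
      · rw [hm]
        refine pow_dvd_pow q (hq.pow_dvd_iff_le_factorization (Nat.card_pos).ne' |>.1 ?_)
        rw [← hm]; exact card_dvd_of_le hR'K
      · rw [hRdef, card_map_of_injective M.subtype_injective]
        refine R.pow_dvd_card_of_pow_dvd_card ?_
        rw [← Q₀.card_eq_multiplicity, ← card_map_of_injective (K := (Q₀ : Subgroup K))
          K.subtype_injective]
        exact card_dvd_of_le hQ₀M
    set R₁ : Sylow q K := Sylow.ofCard _ hcardR with hR₁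
    have hR₁m : (R₁ : Subgroup K).map K.subtype = R' := by
      rw [hR₁, Sylow.coe_ofCard, subgroupOf_map_subtype, inf_eq_left.2 hR'K]
    obtain ⟨g, hg, hgR⟩ := H1.exists_fixed_conj_sylow (zpowers_le.2 htK) (htcop K le_rfl)
      (Or.inl inferInstance) q R₁ Q (by rw [hR₁m]; exact hR') (zpowers_le.2 htQ)
    have hga : ∃ b ∈ R', (g : G) * b * (g : G)⁻¹ = a := by
      obtain ⟨w, hw, rfl⟩ := ha
      rw [← hgR] at hw
      obtain ⟨b, hb, rfl⟩ := hw
      exact ⟨b, hR₁m ▸ ⟨b, hb, rfl⟩, rfl⟩
    obtain ⟨b, hb, hba⟩ := hga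
    have htb : Commute t b := by
      have := mem_centralizer_of_coprime (isCyclic_of_isPGroup (h.hyp.odd q hq hq2) (R.2.map _))
        (R.2.map M.subtype) (zpowers_le.1 hR') hoR (fun e0 => by
          rw [e0, orderOf_one] at hoo; exact hq.ne_one hoo.symm)
        (core_comm ho).symm (by
          rw [h.dih.dz_two]; exact (Nat.coprime_primes Nat.prime_two hq).2 (Ne.symm hq2))
      exact (mem_centralizer_iff.1 this b hb).symm
    have hta : Commute t a := by
      have hgt : (g : G) * t * (g : G)⁻¹ = t :=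
        cj_eq_iff_commute.2 (mem_centralizer_iff.1 hg t (mem_zpowers t)).symm
      rw [← hba, ← hgt]
      exact cjc htb
    have := e a ha
    rw [cj_eq_iff_commute.2 hta, ← mul_eq_one_iff_eq_inv] at this
    exact ha1 (eq_one_of_sq_of_odd this (odd_orderOf_of_mem hKodd haK))
  intro g hg
  obtain ⟨k, hk, a, ha, rfl⟩ := hKdec g hg
  rw [hTeq] at ha
  exact mul_mem (hMeq.ge hk).2 (h.S_le (zpowers_le.2 h.dih.mem ha))

theorem normalizer_le (hR : h.Free) (hA : ∀ o ∈ core c, Commute c o)
    (hinv : ∀ x ∈ (S : Subgroup G), x ∉ zpowers c → ∀ o ∈ core c, x * o * x⁻¹ = o⁻¹)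
    {Y : Subgroup G} (hY : Y ≤ core c) (hY1 : Y ≠ ⊥) :
    normalizer (Y : Set G) ≤ centralizer ({dz c} : Set G) := by
  haveI : Fact (Nat.Prime 2) := ⟨Nat.prime_two⟩
  obtain ⟨z, hz, hz1⟩ := (Subgroup.bot_or_exists_ne_one Y).resolve_left hY1
  obtain ⟨p, k, hp, hp2, hyp⟩ := h.exists_prime_power_mem (hY hz) hz1
  set y := z ^ k
  have hyY : y ∈ Y := pow_mem hz k
  have hy : y ∈ core c := hY hyY
  have hy1 : y ≠ 1 := fun e => by rw [e, orderOf_one] at hyp; exact hp.ne_one hyp.symm
  haveI := h.core_cyclic hR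
  have hYc : IsCyclic Y := Subgroup.isCyclic_of_le hY
  have hle := h.fix_sylow hR hA hy hy1 hyp hinv
  intro g hg
  set t := dz c
  set H := centralizer ({y} : Set G) with hH
  have hgY : g ∈ normalizer (zpowers y : Set G) := normalizer_zpowers_of_cyclic hYc hg hyY
  have htH : t ∈ H := mem_centralizer_singleton_iff.2 (core_comm hy).symm.eq
  have huH : g * t * g⁻¹ ∈ H := cj_mem (normalizer_le_normalizer_centralizer hgY) htH
  have hu2 : orderOf (g * t * g⁻¹) = 2 := by
    rw [← MulAut.conj_apply, MulEquiv.orderOf_eq]; exact h.dih.dz_two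
  -- `t` is the only involution of `C(y)`
  have hcH : zpowers c ≤ H := zpowers_le.2 (mem_centralizer_singleton_iff.2 (hA y hy).eq)
  obtain ⟨j, -, hj⟩ := h.dih.ord
  obtain ⟨T, hT⟩ := (IsPGroup.of_card (n := j) (by
    rw [Nat.card_congr (subgroupOfEquivOfLe hcH).toEquiv, Nat.card_zpowers, hj]) :
    IsPGroup 2 ((zpowers c).subgroupOf H)).exists_le_sylow
  have hTeq : (T : Subgroup H).map H.subtype = zpowers c := by
    refine (eq_of_le_of_card_ge ?_ ?_).symm
    · intro x hx
      exact ⟨⟨x, hcH hx⟩, hT hx, rfl⟩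
    · rw [Nat.card_zpowers]
      refine Nat.le_of_dvd (orderOf_pos c) (h.card_two_le hR hy hy1 (T.2.map _) ?_)
      rintro _ ⟨a, -, rfl⟩
      exact mem_centralizer_singleton_iff.1 a.2
  obtain ⟨b, hb, hbu⟩ := exists_cj_le_of_sylow T (IsPGroup.of_card (n := 1)
    (by rw [Nat.card_zpowers, hu2, pow_one]) : IsPGroup 2 (zpowers (g * t * g⁻¹)))
    (zpowers_le.2 huH)
  rw [hTeq] at hbu
  have h1 : b * (g * t * g⁻¹) * b⁻¹ = t := h.dih.dz_unique
    (by rw [← MulAut.conj_apply, MulEquiv.orderOf_eq]; exact hu2)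
    (hbu ⟨_, mem_zpowers _, rfl⟩)
  have hbt : b * t * b⁻¹ = t := cj_eq_iff_commute.2 (mem_centralizer_singleton_iff.1 (hle hb))
  exact mem_centralizer_singleton_iff.2 (cj_eq_iff_commute.1
    (mul_left_cancel (mul_right_cancel (h1.trans hbt.symm)))).eq

theorem simpleGoal_of_central (hR : h.Free) (hA : ∀ o ∈ core c, Commute c o)
    (hinv : ∀ x ∈ (S : Subgroup G), x ∉ zpowers c → ∀ o ∈ core c, x * o * x⁻¹ = o⁻¹) :
    SimpleGoal G := by
  haveI := h.hyp.simple
  obtain ⟨e⟩ := h.iso
  have hcent : core c ≠ ⊥ →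
      ((S : Subgroup G) ⊓ centralizer ((core c : Subgroup G) : Set G) : Subgroup G) = zpowers c := by
    intro hne
    refine le_antisymm (fun s hs => ?_) (zpowers_le.2 ⟨h.dih.mem, mem_centralizer_iff.2
      fun o ho => (hA o ho).eq.symm⟩)
    by_contra hsA
    obtain ⟨o, ho, ho1⟩ := (Subgroup.bot_or_exists_ne_one _).resolve_left hne
    have := hinv s hs.1 hsA o ho
    rw [cj_eq_iff_commute.2 (mem_centralizer_iff.1 hs.2 o ho).symm, ← mul_eq_one_iff_eq_inv]
      at this
    exact ho1 (eq_one_of_sq_of_odd this (core_odd' ho))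
  obtain ⟨F, iF, iFt, hFodd, ⟨φ⟩⟩ := H65.dihedral_final S (orderOf c) h.two_le e (dz c)
    h.dih.dz_two h.dih.dz_mem (fun s hs => h.dih.dz_comm hs) (core c) rfl core_odd
    (fun hne => by
      rw [hcent hne]
      refine ⟨inferInstance, ?_⟩
      have h1 := ((zpowers c).subgroupOf (S : Subgroup G)).card_mul_index
      rw [Nat.card_congr (subgroupOfEquivOfLe (zpowers_le.2 h.dih.mem)).toEquiv, Nat.card_zpowers,
        h.card_S, mul_comm 2] at h1
      exact Nat.eq_of_mul_eq_mul_left (orderOf_pos c) h1)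
    (fun s hs hsC o ho => hinv s hs (fun hsA => hsC (mem_centralizer_iff.2 fun o' ho' => by
      obtain ⟨i, rfl⟩ := mem_zpowers_iff.1 hsA
      exact ((hA o' ho').zpow_left i).eq.symm)) o ho)
    (fun Y hY hY1 => h.normalizer_le hR hA hinv hY hY1)
  -- the field is prime
  obtain ⟨p, hcp⟩ := CharP.exists F
  haveI := hcp
  obtain ⟨m, hp, hm⟩ := FiniteField.card F p
  haveI : Fact p.Prime := ⟨hp⟩
  have hp2 : p ≠ 2 := by
    intro e2
    rw [hm, e2] at hFodd
    exact Nat.not_even_iff_odd.2 hFodd ((Nat.even_pow).2 ⟨even_two, m.ne_zero⟩)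
  let ψ : Multiplicative F →* G := φ.symm.toMonoidHom.comp ((QuotientGroup.mk' _).comp (upperHom F))
  have hψ : Function.Injective ψ := by
    rw [← MonoidHom.ker_eq_bot_iff, eq_bot_iff]
    intro a ha
    rw [MonoidHom.mem_ker, MonoidHom.comp_apply, MulEquiv.coe_toMonoidHom,
      MulEquiv.map_eq_one_iff, MonoidHom.comp_apply, QuotientGroup.mk'_apply,
      QuotientGroup.eq_one_iff, Matrix.SpecialLinearGroup.mem_center_iff] at ha
    obtain ⟨r, -, hr⟩ := ha
    have h01 := congrFun (congrFun hr 0) 1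
    rw [mem_bot]
    apply Multiplicative.toAdd.injective
    rw [upperHom_apply] at h01
    simpa [Matrix.scalar_apply] using h01.symm
  have hpg : IsPGroup p ψ.range := by
    refine IsPGroup.of_card (n := m) ?_
    rw [← Nat.card_congr (MonoidHom.ofInjective hψ).toEquiv, Nat.card_congr Multiplicative.toAdd,
      Nat.card_eq_fintype_card, hm]
  have hcyc := isCyclic_of_isPGroup (h.hyp.odd p hp hp2) hpg
  haveI : IsCyclic (Multiplicative F) :=
    isCyclic_of_surjective (MonoidHom.ofInjective hψ).symm.toMonoidHom (MulEquiv.surjective _)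
  have hcard : Fintype.card F = p := by
    have h1 : Monoid.exponent (Multiplicative F) ∣ p :=
      Monoid.exponent_dvd_of_forall_pow_eq_one fun a => by
        apply Multiplicative.toAdd.injective
        rw [toAdd_pow, toAdd_one, nsmul_eq_mul, CharP.cast_eq_zero, zero_mul]
    rw [IsCyclic.exponent_eq_card, Nat.card_congr Multiplicative.toAdd,
      Nat.card_eq_fintype_card, Nat.dvd_prime hp] at h1
    exact h1.resolve_left (Fintype.one_lt_card).ne'
  have hp5 : 5 ≤ p := by
    rcases (show p = 3 ∨ 5 ≤ p by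
      have := hp.two_le
      rcases eq_or_ne p 4 with rfl | h4
      · norm_num at hp
      · omega) with rfl | h5
    · exfalso
      have h12 : Nat.card G = 12 := by
        have := H37.card_PSL_two (F := F)
        rw [Nat.card_eq_fintype_card (α := F), hcard, ← Nat.card_congr φ.toEquiv] at this
        norm_num at this
        omega
      rcases H65.sieve_le_hundred (Nat.card G) (by omega) with e0 | e0 | e0 | e0 | e0
      · omega
      · omega
      · omega
      · omega
      · exact H65.false_of_sieve h.hyp.nonab e0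
    · exact h5
  exact ⟨p, inferInstance, hp5,
    ⟨φ.trans (pslCongr (ZMod.ringEquiv F (hcard ▸ rfl)).symm)⟩⟩
where
  /-- A ring isomorphism gives an isomorphism of `PSL₂`. -/
  pslCongr {A B : Type} [Field A] [Field B] (f : A ≃+* B) :
      Matrix.ProjectiveSpecialLinearGroup (Fin 2) A ≃*
        Matrix.ProjectiveSpecialLinearGroup (Fin 2) B :=
    QuotientGroup.congr _ _
      (MonoidHom.toMulEquiv (Matrix.SpecialLinearGroup.map (f : A →+* B))
        (Matrix.SpecialLinearGroup.map (f.symm : B →+* A))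
        (by ext g i j; simp) (by ext g i j; simp))
      (map_center _)

end Cfg

end H75.CSy
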