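import Cfsg.Agent.H75.CSy.Local

/-!
The centraliser of an element inverted by the rotation is solvable.
-/

set_option autoImplicit false
set_option linter.unusedSectionVars false
set_option linter.style.haveILetI false

open Cfsg Subgroup H76.CSy H68

namespace H75.CSy

universe u

variable {G : Type u} [Group G] [Finite G]

namespace Cfg

variable {S : Sylow 2 G} {c : G} {h : Cfg S c} {p : ℕ} {y τ : G}

theorem Inv.split_product (d : Inv h p y τ)
    (hns : ¬ Group.IsSolvable (centralizer ({y} : Set G))) :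
    ∃ (X L : Subgroup G) (r : ℕ) (_ : Fact r.Prime), 5 ≤ r ∧
      (X ≤ centralizer ({y} : Set G)) ∧ (L ≤ centralizer ({y} : Set G)) ∧
      (∀ a ∈ X, ∀ b ∈ L, Commute a b) ∧
      (∀ g ∈ centralizer ({y} : Set G), ∃ a ∈ X, ∃ b ∈ L, a * b = g) ∧
      (Nat.card X).Coprime (Nat.card L) ∧ Odd (Nat.card X) ∧
      (Nonempty (↥L ≃* Matrix.ProjectiveSpecialLinearGroup (Fin 2) (ZMod r)) ∨
       Nonempty (↥L ≃* Matrix.SpecialLinearGroup (Fin 2) (ZMod r))) := by
  haveI : Fact (Nat.Prime 2) := ⟨Nat.prime_two⟩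
  set H := centralizer ({y} : Set G) with hH
  obtain ⟨G₀, hG₀n, hG₀, X, L, hXn, hLn, hinf, hsup, hcop, hXodd, -, r, hr, hr5, hiso⟩ :=
    h.hyp.below H (h.centralizer_ne_top d.ne_one) hns
  haveI := hG₀n
  -- `G₀` is everything
  have hcomm : ⁅H, H⁆ ≤ G₀.map H.subtype := by
    rw [commutator_le]
    intro a ha b hb
    refine ⟨⟨a, ha⟩ * ⟨b, hb⟩ * ⟨a, ha⟩⁻¹ * ⟨b, hb⟩⁻¹, ?_, rfl⟩
    rcases (Nat.dvd_prime Nat.prime_two).1 hG₀ with e | e
    · rw [index_eq_one.1 e]; exact mem_top _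
    · rw [SetLike.mem_coe, mul_mem_iff_of_index_two e, mul_mem_iff_of_index_two e,
        mul_mem_iff_of_index_two e, inv_mem_iff, inv_mem_iff]
      tauto
  have htop : G₀ = ⊤ := by
    obtain ⟨T, hT⟩ := d.exists_sylow
    have hTG : (T : Subgroup H) ≤ G₀ := by
      refine (map_le_map_iff_of_injective H.subtype_injective).1 ?_
      rw [hT]
      exact d.S_le_derived.trans hcomm
    rcases (Nat.dvd_prime Nat.prime_two).1 hG₀ with e | e
    · exact index_eq_one.1 e
    · have h2 := index_dvd_of_le hTG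
      rw [e] at h2
      exact absurd h2 T.not_dvd_index
  let ι : G₀ →* G := H.subtype.comp G₀.subtype
  have hι : Function.Injective ι := H.subtype_injective.comp G₀.subtype_injective
  refine ⟨X.map ι, L.map ι, r, hr, hr5, ?_, ?_, ?_, ?_, ?_, ?_, ?_⟩
  · rintro _ ⟨a, -, rfl⟩; exact (a : H).2
  · rintro _ ⟨a, -, rfl⟩; exact (a : H).2
  · rintro _ ⟨a, ha, rfl⟩ _ ⟨b, hb, rfl⟩
    exact (commute_of_normal_of_disjoint X L hXn hLn (disjoint_iff.2 hinf) a b ha hb).map ι
  · intro g hg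
    haveI := hLn
    have hm : (⟨⟨g, hg⟩, by rw [htop]; exact mem_top _⟩ : G₀) ∈ X ⊔ L := by rw [hsup]; exact mem_top _
    obtain ⟨a, ha, b, hb, hab⟩ := mem_sup_of_normal_right.1 hm
    exact ⟨ι a, ⟨a, ha, rfl⟩, ι b, ⟨b, hb, rfl⟩, by rw [← map_mul, hab]; rfl⟩
  · rwa [card_map_of_injective hι, card_map_of_injective hι]
  · rwa [card_map_of_injective hι]
  · exact hiso.imp (fun ⟨e⟩ => ⟨(L.equivMapOfInjective ι hι).symm.trans e⟩)
      (fun ⟨e⟩ => ⟨(L.equivMapOfInjective ι hι).symm.trans e⟩)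

theorem Inv.solvable (d : Inv h p y τ) (hPick : PSLPickStmt.{u}) (hOuter : PSLOuterStmt.{u}) :
    Group.IsSolvable (centralizer ({y} : Set G)) := by
  by_contra hns
  haveI : Fact (Nat.Prime 2) := ⟨Nat.prime_two⟩
  obtain ⟨X, L, r, hr, hr5, hXH, hLH, hcomm, hdec, hcop, hXodd, hiso⟩ := d.split_product hns
  set t := dz c with ht
  set H := centralizer ({y} : Set G) with hH
  have hXL : ∀ a, a ∈ X → a ∈ L → a = 1 := fun a ha hb =>
    orderOf_eq_one_iff.1 (Nat.eq_one_of_dvd_coprimes hcop (Subgroup.orderOf_dvd_natCard X ha)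
      (Subgroup.orderOf_dvd_natCard L hb))
  have hpow : ∀ a ∈ X, ∀ b ∈ L, ∀ n : ℕ, (a * b) ^ n = 1 → a ^ n = 1 ∧ b ^ n = 1 := by
    intro a ha b hb n hn
    rw [(hcomm a ha b hb).mul_pow] at hn
    have h1 : a ^ n = 1 := hXL _ (pow_mem ha n)
      (by rw [eq_inv_of_mul_eq_one_left hn]; exact inv_mem (pow_mem hb n))
    exact ⟨h1, by rwa [h1, one_mul] at hn⟩
  have hmemL : ∀ g ∈ H, g ^ Nat.card L = 1 → g ∈ L := by
    intro g hg hn
    obtain ⟨a, ha, b, hb, rfl⟩ := hdec g hg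
    have h1 := (hpow a ha b hb _ hn).1
    have : a = 1 := orderOf_eq_one_iff.1 (Nat.eq_one_of_dvd_coprimes hcop
      (Subgroup.orderOf_dvd_natCard X ha) (orderOf_dvd_of_pow_eq_one h1))
    rw [this, one_mul]; exact hb
  have hinvol : ∀ g ∈ H, g * g = 1 → g ∈ L := by
    intro g hg hn
    obtain ⟨a, ha, b, hb, rfl⟩ := hdec g hg
    have h1 := (hpow a ha b hb 2 (by rwa [pow_two])).1
    rw [pow_two] at h1
    rw [eq_one_of_sq_of_odd h1 (odd_orderOf_of_mem hXodd ha), one_mul]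
    exact hb
  have htL : t ∈ L := hinvol t d.t_H d.tt
  have hτL : τ ∈ L := hinvol τ d.τ_H d.ττ
  have ht2 : orderOf t = 2 := h.dih.dz_two
  have hτ2 : orderOf τ = 2 := H65.two_iff.2 ⟨d.ττ, fun e => d.τ_out (e ▸ one_mem _)⟩
  rcases hiso with he | he
  swap
  · obtain ⟨e⟩ := he
    have := sl2_two_unique (by omega) e (a := ⟨t, htL⟩) (b := ⟨τ, hτL⟩)
      (by rw [Subgroup.orderOf_mk]; exact ht2) (by rw [Subgroup.orderOf_mk]; exact hτ2)
    refine d.τ_out ?_
    rw [show τ = dz c from (congrArg Subtype.val this).symm]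
    exact h.dih.dz_mem_zpowers
  obtain ⟨e⟩ := he
  obtain ⟨q, z, hq, hq2, hqr, hzo, hzodd, hzcop⟩ :=
    hPick L r hr5 ⟨e⟩ ⟨t, htL⟩ (by rw [Subgroup.orderOf_mk]; exact ht2)
  set N := normalizer (zpowers y : Set G) with hN
  have hHN : H ≤ N := fun g hg => centralizer_le_normalizer _
    (by rw [zpowers_eq_closure, centralizer_closure]; exact hg)
  have hLN : L ≤ N := hLH.trans hHN
  haveI : (L.subgroupOf N).Normal := by
    refine ⟨fun a ha g => ?_⟩
    show (g : G) * a * (g : G)⁻¹ ∈ L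
    refine hmemL _ (mem_centralizer_singleton_iff.2 (conj_commute g.2
      (mem_centralizer_singleton_iff.1 (hLH ha))).eq) ?_
    rw [conj_pow, show (a : G) ^ Nat.card L = 1 from
      congrArg Subtype.val (pow_card_eq_one' (x := (⟨a, ha⟩ : L))), mul_one, mul_inv_cancel]
  set LN := L.subgroupOf N with hLNdef
  have hcN : c ∈ N := h.S_normalizes d.free (h.S_le h.dih.mem) d.mem
  have hne : LN ⊔ centralizer (LN : Set N) ≠ ⊤ := by
    intro htop
    obtain ⟨l, hl, k, hk, hlk⟩ : ∃ l ∈ LN, ∃ k ∈ centralizer (LN : Set N), l * k = ⟨c, hcN⟩ :=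
      mem_sup_of_normal_left.1 (htop ▸ mem_top _)
    have hk' : ∀ w ∈ L, Commute (k : G) w := fun w hw =>
      (congrArg Subtype.val (mem_centralizer_iff.1 hk ⟨w, hLN hw⟩ hw) :
        w * (k : G) = (k : G) * w).symm
    refine d.not_commute ?_
    have : (l : G) * (k : G) = c := congrArg Subtype.val hlk
    rw [← this]
    exact Commute.mul_left (mem_centralizer_singleton_iff.1 (hLH hl))
      (d.cent_four_commute (hk' t htL) (hk' τ hτL))
  obtain ⟨n₀, hn₀, hn₀z⟩ := hOuter N LN r hr5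
    ⟨(subgroupOfEquivOfLe hLN).trans e⟩ hne ⟨z, hLN z.2⟩ z.2
    (by
      rw [Subgroup.orderOf_mk, Subgroup.orderOf_coe, hzo]
      exact (Nat.coprime_primes hq Fact.out).2 hqr)
    (by rw [Subgroup.orderOf_mk, Subgroup.orderOf_coe, hzo]; exact hq2)
  have hn₀H : (n₀ : G) ∉ H := by
    intro hn
    obtain ⟨a, ha, b, hb, hab⟩ := hdec _ hn
    refine hn₀ ?_
    have haC : (⟨a, hHN (hXH ha)⟩ : N) ∈ centralizer (LN : Set N) :=
      mem_centralizer_iff.2 fun w hw => Subtype.ext (hcomm a ha _ hw).symm.eq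
    rw [show n₀ = (⟨a, hHN (hXH ha)⟩ : N) * ⟨b, hLN hb⟩ from Subtype.ext hab.symm]
    exact mul_mem (mem_sup_right haC) (mem_sup_left hb)
  obtain ⟨u, v, huv, ⟨k, hu⟩, hv, hu', hv'⟩ := H5.exists_p_decomposition (p := 2) (n₀ : G)
  have hvodd : Odd (orderOf v) := Nat.coprime_two_right.1 hv
  have hvH : Commute v y := by
    have hv2 : v ^ 2 ∈ H := by
      refine mem_centralizer_singleton_iff.2 ?_
      rcases d.pm ((zpowers_le.2 n₀.2) hv') with e' | e'
      · exact (e'.pow_left 2).eq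
      · refine (cj_eq_iff_commute.1 ?_ : Commute (v ^ 2) y).eq
        calc v ^ 2 * y * (v ^ 2)⁻¹ = v * (v * y * v⁻¹) * v⁻¹ := by rw [pow_two]; group
          _ = v * y⁻¹ * v⁻¹ := by rw [e']
          _ = (v * y * v⁻¹)⁻¹ := by group
          _ = y := by rw [e', inv_inv]
    exact mem_centralizer_singleton_iff.1
      (mem_of_pow_coprime (Nat.coprime_two_left.2 hvodd) hv2)
  have huN : u ∈ N := (zpowers_le.2 n₀.2) hu'
  have huH : ¬ Commute u y := fun e' => hn₀H (by
    rw [huv]; exact mem_centralizer_singleton_iff.2 (e'.mul_left hvH).eq)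
  have hinvu : u * y * u⁻¹ = y⁻¹ := (d.pm huN).resolve_left huH
  have huz : Commute u (z : G) := by
    obtain ⟨i, hi⟩ := mem_zpowers_iff.1 hu'
    rw [← hi]
    exact (show Commute (n₀ : G) (z : G) from congrArg Subtype.val hn₀z.eq).zpow_left i
  have hu2H : Commute (u * u) y := by
    refine cj_eq_iff_commute.1 ?_
    calc u * u * y * (u * u)⁻¹ = u * (u * y * u⁻¹) * u⁻¹ := by group
      _ = u * y⁻¹ * u⁻¹ := by rw [hinvu]
      _ = (u * y * u⁻¹)⁻¹ := by group
      _ = y := by rw [hinvu, inv_inv]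
  have hu2 : u * u = 1 := by
    obtain ⟨a, ha, b, hb, hab⟩ := hdec _ (mem_centralizer_singleton_iff.2 hu2H.eq)
    have h1 := hpow a ha b hb (2 ^ k) (by
      rw [hab, (Commute.refl u).mul_pow, hu, one_mul])
    have ha1 : a = 1 := eq_one_of_odd_of_two_pow (odd_orderOf_of_mem hXodd ha) h1.1
    rw [ha1, one_mul] at hab
    have hbz : (⟨b, hb⟩ : L) ∈ centralizer ({z} : Set L) :=
      mem_centralizer_singleton_iff.2 (Subtype.ext (by
        show b * (z : G) = (z : G) * b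
        rw [hab]
        exact (huz.mul_left huz).eq))
    have hbodd : Odd (orderOf b) := by
      have := odd_orderOf_of_mem hzodd hbz
      rwa [← Subgroup.orderOf_coe] at this
    rw [← hab]
    exact eq_one_of_odd_of_two_pow hbodd h1.2
  have hu1 : u ≠ 1 := fun e' => huH (e' ▸ Commute.one_left _)
  have hzodd' : Odd (orderOf (z : G)) := by
    rw [Subgroup.orderOf_coe, hzo]; exact hq.odd_of_ne_two hq2
  have hqO : q ∣ Nat.card (core c) := by
    have := h.dvd_card_core (H65.two_iff.2 ⟨hu2, hu1⟩) huz.symm hzodd'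
    rwa [Subgroup.orderOf_coe, hzo] at this
  haveI : Fact q.Prime := ⟨hq⟩
  obtain ⟨⟨o, ho⟩, hoo⟩ := exists_prime_orderOf_dvd_card' (G := core c) q hqO
  rw [Subgroup.orderOf_mk] at hoo
  obtain ⟨a, ha, b, hb, hab⟩ :=
    hdec o (mem_centralizer_singleton_iff.2 (h.core_commute d.free ho d.mem).eq)
  have h1 := hpow a ha b hb q (by rw [hab, ← hoo, pow_orderOf_eq_one])
  have hbt : (⟨b, hb⟩ : L) ∈ centralizer ({(⟨t, htL⟩ : L)} : Set L) := by
    refine mem_centralizer_singleton_iff.2 (Subtype.ext ?_)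
    show b * t = t * b
    have h2 : Commute (a * b) t := hab ▸ core_comm ho
    have h3 := ((hcomm a ha t htL).inv_left).mul_left h2
    rw [inv_mul_cancel_left] at h3
    exact h3.eq
  have hb1 : b = 1 := by
    refine congrArg Subtype.val (orderOf_eq_one_iff.1 (Nat.eq_one_of_dvd_coprimes hzcop ?_
      (Subgroup.orderOf_dvd_natCard _ hbt)) : (⟨b, hb⟩ : L) = 1)
    refine (orderOf_dvd_of_pow_eq_one (n := q) (Subtype.ext h1.2)).trans ?_
    rw [← hzo]
    exact Subgroup.orderOf_dvd_natCard _ (mem_centralizer_singleton_iff.2 rfl)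
  rw [hb1, mul_one] at hab
  have hqX : q ∣ Nat.card X := by
    rw [← hoo, ← hab]; exact Subgroup.orderOf_dvd_natCard X ha
  have hqL : q ∣ Nat.card L := hzo ▸ orderOf_dvd_natCard z
  exact hq.ne_one (Nat.eq_one_of_dvd_coprimes hcop hqX hqL)

end Cfg

end H75.CSy
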