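import Cfsg.Agent.H75.CSy.Klein
import Cfsg.Agent.H75.CSy.NonSolvable
import Cfsg.Agent.H75.CSy.Bad
import Cfsg.Agent.H75.CSy.Final

/-!
The dihedral case of S4069.
-/

set_option autoImplicit false

open Cfsg Subgroup H76.CSy H68

namespace H75.CSy

universe u

/-- A dihedral Sylow `2`-subgroup gives `PSL(2,q)` once `DihBad` and `KleinBad` are excluded. -/
theorem dihedral (hPick : PSLPickStmt.{u}) (hOuter : PSLOuterStmt.{u}) : DihedralStmt.{u} := by
  intro G _ _ hyp S hS hD hK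
  obtain ⟨c, h⟩ := exists_cfg hyp S hS
  have hR := h.free hK
  rcases h.split hR with ⟨p, y, hp, hp2, ho, hy, hi⟩ | ⟨hA, hinv⟩
  · obtain ⟨τ, d⟩ := Cfg.exists_inv (h := h) hR hp hp2 ho hy hi
    obtain ⟨B⟩ := d.dihBad (d.solvable hPick hOuter)
    exact (hD B).elim
  · exact h.simpleGoal_of_central hR hA hinv

end H75.CSy
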