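import Cfsg.Agent.H75.CSy.Split
import Cfsg.Agent.H68.DihedralFour

/-!
A reflection centralising an element that the rotation inverts: fusion inside `C(y)`.
-/

set_option autoImplicit false
set_option linter.unusedSectionVars false
set_option linter.style.haveILetI false

open Cfsg Subgroup H76.CSy H68

namespace H75.CSy

universe u

variable {G : Type u} [Group G] [Finite G]

/-- `b` induces a `3`-cycle on `{t, τ, tτ}`. -/
def Tri (b t τ : G) : Prop :=
  (b * t * b⁻¹ = t * τ ∧ b * τ * b⁻¹ = t) ∨ (b * t * b⁻¹ = τ ∧ b * τ * b⁻¹ = t * τ)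

namespace Cfg

/-- The data of the case in which the rotation inverts an element of prime order. -/
structure Inv {S : Sylow 2 G} {c : G} (h : Cfg S c) (p : ℕ) (y τ : G) : Prop where
  free : h.Free
  prime : p.Prime
  odd : p ≠ 2
  ord : orderOf y = p
  mem : y ∈ core c
  inv : c * y * c⁻¹ = y⁻¹
  τ_mem : τ ∈ (S : Subgroup G)
  τ_out : τ ∉ zpowers c
  τ_comm : Commute τ y

variable {S : Sylow 2 G} {c : G} {h : Cfg S c} {p : ℕ} {y τ : G}

theorem Inv.ne_one (d : Inv h p y τ) : y ≠ 1 := fun e => by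
  have := d.ord
  rw [e, orderOf_one] at this
  exact d.prime.ne_one this.symm

theorem Inv.not_commute (d : Inv h p y τ) : ¬ Commute c y := fun e => by
  have h1 := d.inv
  rw [cj_eq_iff_commute.2 e, ← mul_eq_one_iff_eq_inv] at h1
  exact d.ne_one (eq_one_of_sq_of_odd h1 (core_odd' d.mem))

theorem Inv.four_dvd (d : Inv h p y τ) : 4 ∣ orderOf c := by
  refine h.order_cases.resolve_left fun h2 => d.not_commute ?_
  rw [← h.dz_eq_of_two h2]
  exact (core_comm d.mem).symm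

theorem Inv.commute_sq (d : Inv h p y τ) : Commute (c * c) y := by
  refine cj_eq_iff_commute.1 ?_
  calc c * c * y * (c * c)⁻¹ = c * (c * y * c⁻¹) * c⁻¹ := by group
    _ = c * y⁻¹ * c⁻¹ := by rw [d.inv]
    _ = (c * y * c⁻¹)⁻¹ := by group
    _ = y := by rw [d.inv, inv_inv]

theorem Inv.shift (d : Inv h p y τ) : Inv h p y (τ * (c * c)) where
  free := d.free
  prime := d.prime
  odd := d.odd
  ord := d.ord
  mem := d.mem
  inv := d.inv
  τ_mem := mul_mem d.τ_mem (mul_mem h.dih.mem h.dih.mem)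
  τ_out := fun e => d.τ_out (((zpowers c).mul_mem_cancel_right
    (mul_mem (mem_zpowers c) (mem_zpowers c))).1 e)
  τ_comm := d.τ_comm.mul_left d.commute_sq

theorem exists_inv (hR : h.Free) (hp : p.Prime) (hp2 : p ≠ 2) (ho : orderOf y = p)
    (hy : y ∈ core c) (hi : c * y * c⁻¹ = y⁻¹) : ∃ τ, Inv h p y τ := by
  obtain ⟨x, hx, hxA⟩ := h.dih.exists_out
  rcases h.reflection_pm hR hp hp2 hy ho hx hxA with e | e
  · exact ⟨x, hR, hp, hp2, ho, hy, hi, hx, hxA, e⟩
  · refine ⟨x * c, hR, hp, hp2, ho, hy, hi, mul_mem hx h.dih.mem,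
      fun e' => hxA (((zpowers c).mul_mem_cancel_right (mem_zpowers c)).1 e'),
      cj_eq_iff_commute.1 ?_⟩
    calc x * c * y * (x * c)⁻¹ = x * (c * y * c⁻¹) * x⁻¹ := by group
      _ = (x * y * x⁻¹)⁻¹ := by rw [hi]; group
      _ = y := by rw [e, inv_inv]

theorem Inv.exists_fuse (d : Inv h p y τ) :
    ∃ g : G, g ∈ normalizer (h.dih.four d.τ_mem d.τ_out : Set G) ∧ g * τ * g⁻¹ = dz c := by
  haveI : Fact (Nat.Prime 2) := ⟨Nat.prime_two⟩
  have hττ := h.dih.invol τ d.τ_mem d.τ_out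
  have hτ2 : orderOf τ = 2 := H65.two_iff.2 ⟨hττ, fun e => d.τ_out (e ▸ one_mem _)⟩
  obtain ⟨g, hg⟩ := isConj_iff.1 (h.one τ hτ2).symm
  set t := dz c with ht
  set U := h.dih.four d.τ_mem d.τ_out with hU
  have hmU := fun {z : G} => h.dih.mem_four d.τ_mem d.τ_out (g := z)
  have hUK := h.dih.isKleinFour_four d.τ_mem d.τ_out
  have hle : H70.cj g U ≤ centralizer ({t} : Set G) := by
    rintro _ ⟨u, hu, rfl⟩
    refine mem_centralizer_singleton_iff.2 ?_
    rw [← hg]
    refine (cjc (g := g) ?_).eq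
    rcases hmU.1 hu with rfl | rfl | rfl | rfl
    exacts [Commute.one_left _, (h.dih.dz_comm d.τ_mem).symm, Commute.refl _,
      (show Commute t τ from (h.dih.dz_comm d.τ_mem).symm).mul_left (Commute.refl _)]
  obtain ⟨k, hk, hkU⟩ := exists_cj_le_of_sylow (S.subtype h.S_le)
    (klein_isPGroup (cj_isKleinFour hUK g)) hle
  rw [Sylow.coe_subtype, subgroupOf_map_subtype, inf_eq_left.2 h.S_le, H70.cj_cj] at hkU
  have hkg : k * g * τ * (k * g)⁻¹ = t := by
    rw [show k * g * τ * (k * g)⁻¹ = k * (g * τ * g⁻¹) * k⁻¹ by group, hg]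
    exact cj_eq_iff_commute.2 (mem_centralizer_singleton_iff.1 hk)
  obtain ⟨x, hx, hxA, hxU⟩ := h.dih.klein_eq (cj_isKleinFour hUK (k * g)) hkU
  obtain ⟨i, hi⟩ := mem_zpowers_iff.1 (h.dih.idx τ d.τ_mem x hx d.τ_out hxA)
  have hx' : x = τ * c ^ i := by rw [hi, ← mul_assoc, hττ, one_mul]
  have key : ∀ j : ℤ, c ^ j * x * (c ^ j)⁻¹ = τ * c ^ (i - 2 * j) := fun j => by
    have h1 := h.dih.zpow_mul_comm' d.τ_mem d.τ_out (-j)
    rw [neg_neg] at h1
    rw [hx', ← mul_assoc, ← h1, ← zpow_neg, mul_assoc, mul_assoc, ← zpow_add, ← zpow_add]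
    congr 2
    ring
  rcases Int.even_or_odd i with ⟨j, hj⟩ | ⟨j, hj⟩
  · have he := h.dih.cj_four (h.dih.pow_mem j) hx hxA d.τ_mem d.τ_out
      (by rw [key, show i - 2 * j = 0 by omega, zpow_zero, mul_one])
    rw [hxU, H70.cj_cj] at he
    refine ⟨c ^ j * (k * g), H70.cj_eq_self_iff.1 he, ?_⟩
    rw [show c ^ j * (k * g) * τ * (c ^ j * (k * g))⁻¹
      = c ^ j * (k * g * τ * (k * g)⁻¹) * (c ^ j)⁻¹ by group, hkg]
    exact cj_eq_iff_commute.2 (h.comm_dz (h.dih.pow_mem j))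
  · exfalso
    obtain ⟨e⟩ := h.iso
    have hy' : τ * c ∈ (S : Subgroup G) := mul_mem d.τ_mem h.dih.mem
    have hyA' : τ * c ∉ zpowers c := fun e' =>
      d.τ_out (((zpowers c).mul_mem_cancel_right (mem_zpowers c)).1 e')
    have he := h.dih.cj_four (h.dih.pow_mem j) hx hxA hy' hyA'
      (by rw [key, show i - 2 * j = 1 by omega, zpow_one])
    rw [hxU, H70.cj_cj] at he
    exact four_not_conj S e h.dih d.four_dvd d.τ_mem d.τ_out hy' hyA' _ he

/-- An element of `C(y)` cycling the involutions of the four-group of `τ`. -/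
theorem Inv.exists_tri (d : Inv h p y τ) : ∃ b : G, Commute b y ∧ Tri b (dz c) τ := by
  obtain ⟨g, hgN, hgτ⟩ := d.exists_fuse
  set t := dz c with ht
  have hmU := fun {z : G} => h.dih.mem_four d.τ_mem d.τ_out (g := z)
  have htU : t ∈ h.dih.four d.τ_mem d.τ_out := hmU.2 (Or.inr (Or.inl rfl))
  have hτU : τ ∈ h.dih.four d.τ_mem d.τ_out := hmU.2 (Or.inr (Or.inr (Or.inl rfl)))
  have hcyc := h.core_cyclic d.free
  -- `g` normalises `⟨y⟩`
  have hgY : g ∈ normalizer (zpowers y : Set G) := by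
    have h1 : g * y * g⁻¹ ∈ core c := by
      refine h.odd_mem (mem_centralizer_singleton_iff.2 ?_)
        (by rw [← MulAut.conj_apply, MulEquiv.orderOf_eq]; exact core_odd' d.mem)
      show g * y * g⁻¹ * t = t * (g * y * g⁻¹)
      rw [← hgτ]
      exact (cjc d.τ_comm.symm).eq
    refine mem_normalizer_iff' fun z hz => ?_
    obtain ⟨i, rfl⟩ := mem_zpowers_iff.1 hz
    rw [← conj_zpow]
    refine zpow_mem ?_ _
    rw [zpowers_eq_of_orderOf hcyc d.mem h1 (by rw [← MulAut.conj_apply, MulEquiv.orderOf_eq])]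
    exact mem_zpowers _
  obtain ⟨n, hn⟩ := d.four_dvd
  set s := c ^ (n : ℤ) with hs
  have hsτ : s * τ * s⁻¹ = t * τ := by
    have h1 := h.dih.zpow_mul_comm' d.τ_mem d.τ_out (-(n : ℤ))
    rw [neg_neg] at h1
    have h2 : c ^ (-(n : ℤ) + -(n : ℤ)) = t := by
      rw [← neg_add, zpow_neg, ← Nat.cast_add, zpow_natCast, show n + n = orderOf c / 2 by omega]
      exact H65.inv_of_two h.dih.dz_two
    calc s * τ * s⁻¹ = τ * c ^ (-(n : ℤ)) * c ^ (-(n : ℤ)) := by rw [hs, ← h1, zpow_neg]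
      _ = τ * t := by rw [mul_assoc, ← zpow_add, h2]
      _ = t * τ := h.dih.dz_comm d.τ_mem
  have hst : s * t * s⁻¹ = t := cj_eq_iff_commute.2 (h.comm_dz (h.dih.pow_mem _))
  have hsY : s ∈ normalizer (zpowers y : Set G) :=
    h.S_normalizes d.free (h.S_le (h.dih.pow_mem _)) d.mem
  refine ⟨g * s * g⁻¹ * s⁻¹, commutator_commute hgY hsY, ?_⟩
  have htt : t * t = 1 := H65.mul_self_of_two h.dih.dz_two
  have hττ := h.dih.invol τ d.τ_mem d.τ_out
  have hcτ : t * τ = τ * t := (h.dih.dz_comm d.τ_mem).symm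
  have hst' : s⁻¹ * t * s = t := by
    conv_lhs => rw [← hst]
    group
  have hsτ' : s⁻¹ * τ * s = t * τ := by
    have h1 : s * (t * τ) * s⁻¹ = τ := by
      rw [show s * (t * τ) * s⁻¹ = (s * t * s⁻¹) * (s * τ * s⁻¹) by group, hst, hsτ, ← mul_assoc,
        htt, one_mul]
    conv_lhs => rw [← h1]
    group
  have e : ∀ z : G, g * s * g⁻¹ * s⁻¹ * z * (g * s * g⁻¹ * s⁻¹)⁻¹
      = g * (s * (g⁻¹ * (s⁻¹ * z * s) * g) * s⁻¹) * g⁻¹ := fun z => by group
  have hgτ' : g⁻¹ * t * g = τ := by rw [← hgτ]; group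
  have hmul : ∀ a b : G, g * (a * b) * g⁻¹ = (g * a * g⁻¹) * (g * b * g⁻¹) := fun a b => by group
  -- the image of `t` under `g`
  have hgt : g * t * g⁻¹ = τ ∨ g * t * g⁻¹ = t * τ := by
    rcases hmU.1 (cj_mem hgN htU) with e' | e' | e' | e'
    · exact absurd (conj_eq_one_iff.1 e') (H65.ne_one_of_two h.dih.dz_two)
    · exfalso
      refine d.τ_out ?_
      rw [← mul_left_cancel (mul_right_cancel (e'.trans hgτ.symm))]
      exact h.dih.dz_mem_zpowers
    · exact Or.inl e'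
    · exact Or.inr e'
  rcases hgt with hgt | hgt
  · left
    have h3 : g * (t * τ) * g⁻¹ = t * τ := by rw [hmul, hgt, hgτ, hcτ]
    constructor
    · rw [e, hst', hgτ', hsτ, h3]
    · have h4 : g⁻¹ * (t * τ) * g = t * τ := by
        conv_lhs => rw [← h3]
        group
      rw [e, hsτ', h4]
      have h5 : s * (t * τ) * s⁻¹ = τ := by
        rw [show s * (t * τ) * s⁻¹ = (s * t * s⁻¹) * (s * τ * s⁻¹) by group, hst, hsτ, ← mul_assoc,
          htt, one_mul]
      rw [h5, hgτ]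
  · right
    have h3 : g * (t * τ) * g⁻¹ = τ := by
      rw [hmul, hgt, hgτ, hcτ, mul_assoc, htt, mul_one]
    constructor
    · rw [e, hst', hgτ', hsτ, h3]
    · rw [e, hsτ', show g⁻¹ * (t * τ) * g = t by
        rw [show t * τ = g * t * g⁻¹ from hgt.symm]; group]
      rw [hst, hgt]

end Cfg

end H75.CSy
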