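import Cfsg.Agent.H75.CSy.Setup
import Cfsg.Agent.H1.CoprimeAction

/-!
If the core of the centraliser of an involution has elements centralising the Sylow
`2`-subgroup, the configuration `KleinBad` arises.
-/

set_option autoImplicit false
set_option linter.unusedSectionVars false
set_option linter.style.haveILetI false

open Cfsg Subgroup H76.CSy H68

namespace H75.CSy

universe u

variable {G : Type u} [Group G] [Finite G]

theorem centralizer_zpowers (y : G) :
    centralizer (zpowers y : Set G) = centralizer ({y} : Set G) := by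
  rw [zpowers_eq_closure, centralizer_closure]

namespace Cfg

variable {S : Sylow 2 G} {c : G} (h : Cfg S c)
include h

theorem commute_S_dz {g : G} (hg : ∀ s ∈ (S : Subgroup G), Commute s g) :
    g ∈ centralizer ({dz c} : Set G) :=
  mem_centralizer_singleton_iff.2 (hg _ h.dih.dz_mem).eq.symm

theorem norm_fix {g : G} (hg : g ∈ normalizer ((S : Subgroup G) : Set G))
    (hgt : g ∈ centralizer ({dz c} : Set G)) :
    ∃ o ∈ core c, (∀ x ∈ (S : Subgroup G), Commute x o) ∧
      ∃ s ∈ (S : Subgroup G), o * s = g := by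
  obtain ⟨o, ho, s, hs, rfl⟩ := h.decomp hgt
  refine ⟨o, ho, fun x hx => ?_, s, hs, rfl⟩
  have hoN : o ∈ normalizer ((S : Subgroup G) : Set G) := by
    have h1 := mul_mem hg (inv_mem (le_normalizer hs))
    rwa [mul_inv_cancel_right] at h1
  have hm := mul_mem (cj_mem hoN hx) (inv_mem hx)
  have hm' : o * x * o⁻¹ * x⁻¹ ∈ core c := by
    rw [show o * x * o⁻¹ * x⁻¹ = o * (x * o⁻¹ * x⁻¹) by group]
    exact mul_mem ho (h.core_cj hx (inv_mem ho))
  exact (cj_eq_iff_commute.1 (mul_inv_eq_one.1 (h.disj hm' hm))).symm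

theorem norm_fix_of_four (h4 : 4 ∣ orderOf c) {g : G}
    (hg : g ∈ normalizer ((S : Subgroup G) : Set G)) :
    g ∈ centralizer ({dz c} : Set G) := by
  have hm : g * dz c * g⁻¹ ∈ (S : Subgroup G) := cj_mem hg h.dih.dz_mem
  have h2 : orderOf (g * dz c * g⁻¹) = 2 := by
    rw [← MulAut.conj_apply, MulEquiv.orderOf_eq]; exact h.dih.dz_two
  refine mem_centralizer_singleton_iff.2 (cj_eq_iff_commute.1 (h.dih.dz_unique h2 ?_)).eq
  by_contra hA
  have h1 := h.dih.conj_zpow' hm hA 1
  have hcen : Commute (g * dz c * g⁻¹) c := by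
    have h3 : c = g * (g⁻¹ * c * g) * g⁻¹ := by group
    have h4' : g⁻¹ * c * g ∈ (S : Subgroup G) := by
      refine (mem_normalizer_iff.1 hg _).2 ?_
      rw [← h3]; exact h.dih.mem
    have h5 := cjc (g := g) (h.comm_dz h4').symm
    rwa [← h3] at h5
  rw [zpow_one, cj_eq_iff_commute.2 hcen, zpow_neg, zpow_one, ← mul_eq_one_iff_eq_inv,
    ← pow_two] at h1
  have := Nat.le_of_dvd two_pos (h4.trans (orderOf_dvd_of_pow_eq_one h1))
  omega

/-- A prime and an element of that order in `C_O(S)` with central fusion in `C(S)`. -/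
theorem exists_good (hne : ¬ h.Free) :
    ∃ (p : ℕ) (y : G), p.Prime ∧ p ≠ 2 ∧ orderOf y = p ∧ y ∈ core c ∧
      (∀ s ∈ (S : Subgroup G), Commute s y) ∧
      ∀ g ∈ normalizer (zpowers y : Set G), g ∈ normalizer ((S : Subgroup G) : Set G) →
        g ∈ centralizer ({dz c} : Set G) → Commute g y := by
  set R := core c ⊓ centralizer ((S : Subgroup G) : Set G) with hR
  have hmem : ∀ x, x ∈ R ↔ x ∈ core c ∧ ∀ s ∈ (S : Subgroup G), Commute s x := fun x => by
    rw [hR, mem_inf, mem_centralizer_iff]; exact Iff.rfl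
  have hRodd : Odd (Nat.card R) := odd_card_of_orderOf fun x hx => core_odd' hx.1
  haveI : IsZGroup R := isZGroup_of_odd h.hyp.odd R hRodd
  haveI : Nontrivial R := by
    rw [Cfg.Free] at hne
    push Not at hne
    obtain ⟨x, hx, hxs, hx1⟩ := hne
    exact ⟨⟨⟨x, (hmem x).2 ⟨hx, hxs⟩⟩, 1, fun e => hx1 (congrArg Subtype.val e)⟩⟩
  set D := commutator R with hD
  have hlt : D < ⊤ := IsZGroup.commutator_lt (G := R)
  obtain ⟨p, hp, hpd⟩ := Nat.exists_prime_and_dvd (fun e => hlt.ne (index_eq_one.1 e))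
  have hnd : ¬ p ∣ Nat.card D := fun e =>
    hp.ne_one (Nat.eq_one_of_dvd_coprimes (IsZGroup.coprime_commutator_index R) e hpd)
  have hpR : p ∣ Nat.card R := hpd.trans D.index_dvd_card
  haveI : Fact p.Prime := ⟨hp⟩
  obtain ⟨⟨y, hy⟩, hyo⟩ := exists_prime_orderOf_dvd_card' (G := R) p hpR
  rw [Subgroup.orderOf_mk] at hyo
  refine ⟨p, y, hp, fun e => ?_, hyo, ((hmem y).1 hy).1, ((hmem y).1 hy).2, fun g hgY hgS hgt => ?_⟩
  · subst e; exact Nat.not_even_iff_odd.2 hRodd (even_iff_two_dvd.2 hpR)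
  obtain ⟨o, ho, hox, s, hs, rfl⟩ := h.norm_fix hgS hgt
  have hsy : Commute s y := ((hmem y).1 hy).2 s hs
  refine Commute.mul_left ?_ hsy
  have hoY : o ∈ normalizer (zpowers y : Set G) := by
    have hsN : s ∈ normalizer (zpowers y : Set G) := centralizer_le_normalizer _
      (by rw [centralizer_zpowers]; exact mem_centralizer_singleton_iff.2 hsy.eq)
    have h1 := mul_mem hgY (inv_mem hsN)
    rwa [mul_inv_cancel_right] at h1
  have hoR : o ∈ R := (hmem o).2 ⟨ho, hox⟩
  have hD1 : (⟨o, hoR⟩ : R) * ⟨y, hy⟩ * (⟨o, hoR⟩ : R)⁻¹ * (⟨y, hy⟩ : R)⁻¹ ∈ D :=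
    commutator_mem_commutator (mem_top _) (mem_top _)
  have hY : o * y * o⁻¹ * y⁻¹ ∈ zpowers y :=
    mul_mem (cj_mem hoY (mem_zpowers y)) (inv_mem (mem_zpowers y))
  have h1 : orderOf (o * y * o⁻¹ * y⁻¹) ∣ p := hyo ▸ orderOf_dvd_of_mem_zpowers hY
  have h2 : orderOf (o * y * o⁻¹ * y⁻¹) ∣ Nat.card D := by
    have := Subgroup.orderOf_dvd_natCard D hD1
    rwa [← Subgroup.orderOf_coe] at this
  rcases (Nat.dvd_prime hp).1 h1 with e | e
  · exact cj_eq_iff_commute.1 (mul_inv_eq_one.1 (orderOf_eq_one_iff.1 e))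
  · exact absurd (e ▸ h2) hnd

/-- Some element normalises `⟨y⟩` without centralising `y`. -/
theorem exists_not_commute {p : ℕ} (hp : p.Prime) (hp2 : p ≠ 2) {y : G} (hy : orderOf y = p) :
    ∃ g ∈ normalizer (zpowers y : Set G), ¬ Commute g y := by
  by_contra hne
  push Not at hne
  haveI : Fact p.Prime := ⟨hp⟩
  haveI := h.hyp.simple
  obtain ⟨P, hP⟩ := (IsPGroup.of_card (n := 1)
    (by rw [Nat.card_zpowers, hy, pow_one]) : IsPGroup p (zpowers y)).exists_le_sylow
  have hyP : y ∈ (P : Subgroup G) := hP (mem_zpowers y)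
  have hy1 : y ≠ 1 := fun e => by rw [e, orderOf_one] at hy; exact hp.ne_one hy.symm
  have hcyc := h.hyp.odd p hp hp2 P
  refine not_normalizer_le_centralizer h.hyp.nonab P hcyc (fun e => ?_) fun v hv => ?_
  · rw [e, mem_bot] at hyP; exact hy1 hyP
  · exact mem_centralizer_of_sylow P hcyc hv hyP hy1
      (hne v (normalizer_zpowers_of_cyclic hcyc hv hyP))

theorem free_of_four (h4 : 4 ∣ orderOf c) : h.Free := by
  by_contra hne
  obtain ⟨p, y, hp, hp2, hy, -, hSy, hcomm⟩ := h.exists_good hne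
  obtain ⟨g, hg, hgy⟩ := h.exists_not_commute hp hp2 hy
  refine hgy ?_
  have hSC : (S : Subgroup G) ≤ centralizer ({y} : Set G) := fun s hs =>
    mem_centralizer_singleton_iff.2 (hSy s hs).eq
  obtain ⟨k, hk, hkg⟩ := frattini S hSC (normalizer_le_normalizer_centralizer hg)
  have hky : Commute k y := mem_centralizer_singleton_iff.1 hk
  have hkN : k ∈ normalizer (zpowers y : Set G) := centralizer_le_normalizer _
    (by rw [centralizer_zpowers]; exact hk)
  have := hky.inv_left.mul_left (hcomm _ (mul_mem hkN hg) hkg (h.norm_fix_of_four h4 hkg))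
  rwa [inv_mul_cancel_left] at this

/-- In the four-group case elements of `N(S)` cube into `C(S)`. -/
theorem cube_fix (h2 : orderOf c = 2) {g : G} (hg : g ∈ normalizer ((S : Subgroup G) : Set G)) :
    (g ∈ centralizer ({dz c} : Set G)) ∨
      (∀ u ∈ (S : Subgroup G), u ≠ 1 →
        u = dz c ∨ u = g * dz c * g⁻¹ ∨ u = g * (g * dz c * g⁻¹) * g⁻¹) ∧
      g ^ 3 ∈ centralizer ({dz c} : Set G) := by
  set t := dz c with ht
  have htt : t * t = 1 := H65.mul_self_of_two h.dih.dz_two
  set a := g * t * g⁻¹ with ha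
  by_cases hat : a = t
  · exact Or.inl (mem_centralizer_singleton_iff.2 (cj_eq_iff_commute.1 hat).eq)
  right
  have haS : a ∈ (S : Subgroup G) := cj_mem hg h.dih.dz_mem
  have ha1 : a ≠ 1 := fun e => H65.ne_one_of_two h.dih.dz_two (conj_eq_one_iff.1 e)
  have haa : a * a = 1 := h.sq_of_two h2 haS
  have htA : t ∈ zpowers c := h.dih.dz_mem_zpowers
  have haA : a ∉ zpowers c := fun e => hat (h.dih.dz_unique (H65.two_iff.2 ⟨haa, ha1⟩) e)
  have hfour : ∀ u ∈ (S : Subgroup G), u = 1 ∨ u = t ∨ u = a ∨ u = t * a := by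
    intro u hu
    have key : ∀ v ∈ (S : Subgroup G), v ∈ zpowers c → v = 1 ∨ v = t := fun v hv hvA => by
      by_cases h1 : v = 1
      · exact Or.inl h1
      · exact Or.inr (h.dih.dz_unique (H65.two_iff.2 ⟨h.sq_of_two h2 hv, h1⟩) hvA)
    by_cases huA : u ∈ zpowers c
    · exact (key u hu huA).imp id Or.inl
    · have e : u = u * a * a := by rw [mul_assoc, haa, mul_one]
      rcases key _ (mul_mem hu haS) (h.dih.idx u hu a haS huA haA) with h1 | h1
      · right; right; left; rw [e, h1, one_mul]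
      · right; right; right; rw [e, h1]
  set b := g * a * g⁻¹ with hb
  have hbta : b = t * a := by
    rcases hfour b (cj_mem hg haS) with e | e | e | e
    · exact absurd (conj_eq_one_iff.1 e) ha1
    · exfalso
      have hg2 : g ^ 2 ∈ centralizer ({t} : Set G) :=
        mem_centralizer_singleton_iff.2 (cj_eq_iff_commute.1
          (show g ^ 2 * t * (g ^ 2)⁻¹ = t from
            calc g ^ 2 * t * (g ^ 2)⁻¹ = g * a * g⁻¹ := by rw [ha, pow_two]; group
              _ = t := e)).eq
      set N := normalizer ((S : Subgroup G) : Set G) with hN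
      haveI : ((S : Subgroup G).subgroupOf N).Normal := normal_in_normalizer
      have hm := ((S : Subgroup G).subgroupOf N).pow_index_mem ⟨g, hg⟩
      have hodd : Nat.Coprime 2 ((S : Subgroup G).subgroupOf N).index :=
        Nat.prime_two.coprime_iff_not_dvd.2 fun h' =>
          S.not_dvd_index (h'.trans (relIndex_dvd_index_of_le le_normalizer))
      have hgt := mem_of_pow hodd hg2
        (h.S_le (show g ^ _ ∈ (S : Subgroup G) by simpa [mem_subgroupOf] using hm))
      exact hat (cj_eq_iff_commute.2 (mem_centralizer_singleton_iff.1 hgt))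
    · exact absurd (mul_left_cancel (mul_right_cancel e)) hat
    · exact e
  refine ⟨fun u hu hu1 => ?_, mem_centralizer_singleton_iff.2 (cj_eq_iff_commute.1 ?_).eq⟩
  · rcases hfour u hu with e | e | e | e
    · exact absurd e hu1
    · exact Or.inl e
    · exact Or.inr (Or.inl e)
    · exact Or.inr (Or.inr (e.trans hbta.symm))
  · calc g ^ 3 * t * (g ^ 3)⁻¹ = g * b * g⁻¹ := by rw [hb, ha]; simp [pow_succ, mul_assoc]
      _ = g * (t * a) * g⁻¹ := by rw [hbta]
      _ = a * b := by rw [hb, ha]; group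
      _ = t := by
          rw [hbta, (h.comm_of_two h2 h.dih.dz_mem haS).eq, ← mul_assoc, haa, one_mul]

set_option maxHeartbeats 1000000 in
theorem kleinBad_of_two (h2 : orderOf c = 2) (hne : ¬ h.Free) : Nonempty (KleinBad G) := by
  haveI : Fact (Nat.Prime 2) := ⟨Nat.prime_two⟩
  obtain ⟨p, y, hp, hp2, hy, hyO, hSy, hcomm⟩ := h.exists_good hne
  haveI : Fact p.Prime := ⟨hp⟩
  haveI := h.hyp.simple
  set t := dz c with ht
  set NY := normalizer (zpowers y : Set G) with hNY
  set H := centralizer ({y} : Set G) with hH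
  have hy1 : y ≠ 1 := fun e => by rw [e, orderOf_one] at hy; exact hp.ne_one hy.symm
  have hSH : (S : Subgroup G) ≤ H := fun s hs => mem_centralizer_singleton_iff.2 (hSy s hs).eq
  have hHN : H ≤ NY := fun x hx => centralizer_le_normalizer _
    (by rw [centralizer_zpowers]; exact hx)
  have hcube : ∀ m ∈ NY, m ∈ normalizer ((S : Subgroup G) : Set G) → Commute (m ^ 3) y := by
    intro m hm hmS
    rcases h.cube_fix h2 hmS with h1 | ⟨-, h1⟩
    · exact (hcomm m hm hmS h1).pow_left 3
    · exact hcomm _ (pow_mem hm 3) (pow_mem hmS 3) h1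
  haveI hHn : (H.subgroupOf NY).Normal :=
    normal_subgroupOf_of_le_normalizer fun g hg => normalizer_le_normalizer_centralizer hg
  have hcube' : ∀ g ∈ NY, Commute (g ^ 3) y := by
    intro g hg
    obtain ⟨k, hk, hkg⟩ := frattini S hSH (normalizer_le_normalizer_centralizer hg)
    set π := QuotientGroup.mk' (H.subgroupOf NY) with hπ
    have e1 : π ⟨k * g, mul_mem (hHN hk) hg⟩ = π ⟨g, hg⟩ := by
      rw [show (⟨k * g, mul_mem (hHN hk) hg⟩ : NY) = ⟨k, hHN hk⟩ * ⟨g, hg⟩ from rfl, map_mul,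
        show π ⟨k, hHN hk⟩ = 1 from (QuotientGroup.eq_one_iff _).2 hk, one_mul]
    have e2 : π (⟨k * g, mul_mem (hHN hk) hg⟩ ^ 3) = 1 := (QuotientGroup.eq_one_iff _).2
      (mem_centralizer_singleton_iff.2 (hcube _ (mul_mem (hHN hk) hg) hkg).eq)
    rw [map_pow, e1, ← map_pow, hπ, QuotientGroup.mk'_apply, QuotientGroup.eq_one_iff] at e2
    exact mem_centralizer_singleton_iff.1 (show g ^ 3 ∈ H from e2)
  obtain ⟨g₀, hg₀, hg₀y⟩ := h.exists_not_commute hp hp2 hy
  -- the automiser of `⟨y⟩`
  haveI : IsCyclic (zpowers y) := inferInstance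
  have hrel : (centralizer ({y} : Set G)).relIndex NY = 3 ∧ 3 ∣ p - 1 := by
    set f := (zpowers y).normalizerMonoidHom with hf
    have hker : f.ker = H.subgroupOf NY := by
      rw [hf, normalizerMonoidHom_ker, centralizer_zpowers]
    haveI : IsCyclic (MulAut (zpowers y)) := by
      haveI : Fact (Nat.card (zpowers y)).Prime := ⟨by rw [Nat.card_zpowers, hy]; exact hp⟩
      exact isCyclic_of_surjective (IsCyclic.mulAutMulEquiv (zpowers y)).symm.toMonoidHom
        (MulEquiv.surjective _)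
    obtain ⟨x, hx⟩ := IsCyclic.exists_generator (α := f.range)
    have hcard : Nat.card f.range = (centralizer ({y} : Set G)).relIndex NY := by
      rw [← index_ker f, hker]; rfl
    have hord : orderOf x = Nat.card f.range := orderOf_eq_card_of_forall_mem_zpowers hx
    obtain ⟨v, hv⟩ := x.2
    have hx3 : orderOf x ∣ 3 := by
      refine orderOf_dvd_of_pow_eq_one (Subtype.ext ?_)
      rw [SubmonoidClass.coe_pow, ← hv, ← map_pow, OneMemClass.coe_one, ← MonoidHom.mem_ker, hker]
      exact mem_centralizer_singleton_iff.2 (hcube' v v.2).eq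
    have hne1 : (centralizer ({y} : Set G)).relIndex NY ≠ 1 := fun e =>
      hg₀y (mem_centralizer_singleton_iff.1 (relIndex_eq_one.1 e hg₀))
    rw [hord, hcard] at hx3
    have h3 := ((Nat.dvd_prime Nat.prime_three).1 hx3).resolve_left hne1
    refine ⟨h3, ?_⟩
    rw [← h3, ← hcard]
    refine (card_subgroup_dvd_card _).trans (dvd_of_eq ?_)
    rw [IsCyclic.card_mulAut, Nat.card_zpowers, hy, Nat.totient_prime hp]
  -- the normaliser of `S` in `C(y)`
  have hSC : ∀ g ∈ H, g ∈ normalizer ((S : Subgroup G) : Set G) →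
      g ∈ centralizer ({t} : Set G) := by
    intro g hg hgS
    by_contra hgt
    obtain ⟨hcov, -⟩ := (h.cube_fix h2 hgS).resolve_left hgt
    refine hg₀y ?_
    obtain ⟨k, hk, hkg⟩ := frattini S hSH (normalizer_le_normalizer_centralizer hg₀)
    set m := k * g₀ with hm
    have hmN : m ∈ NY := mul_mem (hHN hk) hg₀
    have key : ∀ i : ℕ, m * t * m⁻¹ = g ^ i * t * (g ^ i)⁻¹ → Commute m y := by
      intro i hi
      have h1 : (g ^ i)⁻¹ * m ∈ centralizer ({t} : Set G) :=
        mem_centralizer_singleton_iff.2 (cj_eq_iff_commute.1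
          (show (g ^ i)⁻¹ * m * t * ((g ^ i)⁻¹ * m)⁻¹ = t by
            rw [show (g ^ i)⁻¹ * m * t * ((g ^ i)⁻¹ * m)⁻¹
              = (g ^ i)⁻¹ * (m * t * m⁻¹) * g ^ i by group, hi]
            group)).eq
      have h3 := hcomm _ (mul_mem (inv_mem (pow_mem (hHN hg) i)) hmN)
        (mul_mem (inv_mem (pow_mem hgS i)) hkg) h1
      have h4 := (Commute.pow_left (mem_centralizer_singleton_iff.1 hg) i).mul_left h3
      rwa [mul_inv_cancel_left] at h4
    have hmy : Commute m y := by
      rcases hcov _ (cj_mem hkg h.dih.dz_mem)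
        (fun e => H65.ne_one_of_two h.dih.dz_two (conj_eq_one_iff.1 e)) with e | e | e
      · exact key 0 (by simpa using e)
      · exact key 1 (by simpa using e)
      · exact key 2 (e.trans (by simp [pow_two, mul_assoc]; rfl))
    have := (Commute.inv_left (mem_centralizer_singleton_iff.1 hk)).mul_left hmy
    rwa [hm, inv_mul_cancel_left] at this
  -- Burnside in `C(y)`
  set S' : Sylow 2 H := S.subtype hSH with hS'
  have hNC : normalizer ((S' : Subgroup H) : Set H) ≤ centralizer ((S' : Subgroup H) : Set H) := by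
    intro g hg
    have hgS : (g : G) ∈ normalizer ((S : Subgroup G) : Set G) :=
      mem_normalizer_iff' fun x hx => by
        have := cj_mem hg (show (⟨x, hSH hx⟩ : H) ∈ (S' : Subgroup H) from hx)
        exact this
    obtain ⟨o, -, hox, s, hs, he⟩ := h.norm_fix hgS (hSC g g.2 hgS)
    refine mem_centralizer_iff.2 fun x hx => Subtype.ext ?_
    show (x : G) * g = g * x
    rw [← he]
    exact ((hox _ hx).mul_right (h.comm_of_two h2 hx hs)).eq
  obtain ⟨K₀, hK₀n, hc₀⟩ : ∃ K₀ : Subgroup H, K₀.Normal ∧ K₀.IsComplement' (S' : Subgroup H) :=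
    ⟨_, inferInstance, MonoidHom.ker_transferSylow_isComplement' S' hNC⟩
  haveI : K₀.Normal := hK₀n
  have hidx : ∃ e, K₀.index = 2 ^ e := by
    obtain ⟨e, he⟩ := S'.2.exists_card_eq
    exact ⟨e, hc₀.symm.index_eq_card.trans he⟩
  have hK₀odd : Odd (Nat.card K₀) := by
    rw [← hc₀.index_eq_card, ← Nat.not_even_iff_odd, even_iff_two_dvd]
    exact S'.not_dvd_index
  set K := K₀.map H.subtype with hK
  have hKodd : Odd (Nat.card K) := by
    rwa [hK, card_map_of_injective H.subtype_injective]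
  have hSK : (S : Subgroup G) ≤ normalizer (K : Set G) := fun s hs => by
    refine mem_normalizer_iff' fun x hx => ?_
    obtain ⟨a, ha, rfl⟩ := hx
    exact ⟨⟨s, hSH hs⟩ * a * ⟨s, hSH hs⟩⁻¹,
      (inferInstance : K₀.Normal).conj_mem a ha _, rfl⟩
  have hoddK : ∀ x ∈ H, Odd (orderOf x) → x ∈ K := by
    intro x hx ho
    obtain ⟨e, he⟩ := hidx
    refine ⟨⟨x, hx⟩, mem_of_pow_coprime (a := K₀.index) ?_ (K₀.pow_index_mem _), rfl⟩
    rw [he, Subgroup.orderOf_mk]
    exact (Nat.coprime_two_left.2 ho).pow_left e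
  -- the invariant Sylow subgroup
  obtain ⟨P₀, hP₀⟩ := (IsPGroup.of_card (n := 1)
    (by rw [Nat.card_zpowers, hy, pow_one]) : IsPGroup p (zpowers y)).exists_le_sylow
  have hodd_p : ∀ {Q : Subgroup G}, IsPGroup p Q → ∀ x ∈ Q, Odd (orderOf x) := by
    intro Q hQ x hx
    obtain ⟨d, hd⟩ := IsPGroup.iff_orderOf.1 hQ ⟨x, hx⟩
    rw [Subgroup.orderOf_mk] at hd
    exact hd ▸ (hp.odd_of_ne_two hp2).pow
  have hP₀K : (P₀ : Subgroup G) ≤ K := fun x hx => hoddK x (mem_centralizer_singleton_iff.2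
    (centralizes_of_isCyclic (h.hyp.odd p hp hp2 P₀) hx (hP₀ (mem_zpowers y))).eq)
    (hodd_p P₀.2 x hx)
  obtain ⟨Q, hQ⟩ := H1.exists_invariant_sylow (A := (S : Subgroup G)) (K := K) hSK (by
    obtain ⟨e, he⟩ := S.2.exists_card_eq
    rw [he]
    exact (Nat.coprime_two_left.2 hKodd).pow_left e)
    (Or.inl (by haveI := S.2.isNilpotent; infer_instance)) p
  obtain ⟨P, hP⟩ := (Q.2.map K.subtype).exists_le_sylow
  have hQP : (Q : Subgroup K).map K.subtype = (P : Subgroup G) := by
    refine eq_of_le_of_card_ge hP (le_of_eq_of_le ?_ (Nat.le_of_dvd Nat.card_pos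
      (?_ : Nat.card (P₀ : Subgroup G) ∣ Nat.card ((Q : Subgroup K).map K.subtype))))
    · rw [P.card_eq_multiplicity, P₀.card_eq_multiplicity]
    · rw [card_map_of_injective K.subtype_injective, P₀.card_eq_multiplicity]
      refine Q.pow_dvd_card_of_pow_dvd_card ?_
      rw [← P₀.card_eq_multiplicity]
      exact card_dvd_of_le hP₀K
  have hcyc := h.hyp.odd p hp hp2 P
  have hPK : (P : Subgroup G) ≤ K := hQP ▸ map_subtype_le _
  have hKH : K ≤ H := map_subtype_le _
  have hyP : y ∈ (P : Subgroup G) := by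
    have hyN : y ∈ normalizer ((P : Subgroup G) : Set G) :=
      centralizer_le_normalizer _ (mem_centralizer_iff.2 fun x hx =>
        mem_centralizer_singleton_iff.1 (hKH (hPK hx)))
    have := ((IsPGroup.of_card (n := 1) (by rw [Nat.card_zpowers, hy, pow_one]) :
      IsPGroup p (zpowers y)).inf_normalizer_sylow P).le ⟨mem_zpowers y, hyN⟩
    exact this.2
  have hSP : ∀ s ∈ (S : Subgroup G), ∀ x ∈ (P : Subgroup G), Commute s x := by
    intro s hs x hx
    have hsN : s ∈ normalizer ((P : Subgroup G) : Set G) := hQP ▸ hQ hs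
    exact (mem_centralizer_iff.1
      (mem_centralizer_of_sylow P hcyc hsN hyP hy1 (hSy s hs)) x hx).symm
  have hPO : (P : Subgroup G) ≤ core c := fun x hx =>
    h.odd_mem (h.commute_S_dz fun s hs => hSP s hs x hx) (hodd_p P.2 x hx)
  -- Burnside in the core
  set P' : Sylow p (core c) := P.subtype hPO with hP'
  have hNC' : normalizer ((P' : Subgroup (core c)) : Set (core c)) ≤
      centralizer ((P' : Subgroup (core c)) : Set (core c)) := by
    intro g hg
    have hgP : (g : G) ∈ normalizer ((P : Subgroup G) : Set G) :=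
      mem_normalizer_iff' fun x hx => by
        have := cj_mem hg (show (⟨x, hPO hx⟩ : core c) ∈ (P' : Subgroup (core c)) from hx)
        exact this
    have hgY : (g : G) ∈ NY := normalizer_zpowers_of_cyclic hcyc hgP hyP
    have hgC : (g : G) ∈ centralizer ({t} : Set G) := core_le g.2
    obtain ⟨k, hk, hkg⟩ := frattini S (le_inf hSH h.S_le)
      (mem_normalizer_iff' (P := H ⊓ centralizer ({t} : Set G)) fun x hx => mem_inf.2
        ⟨cj_mem (normalizer_le_normalizer_centralizer hgY) hx.1,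
          mul_mem (mul_mem hgC hx.2) (inv_mem hgC)⟩)
    have hgy : Commute (g : G) y := by
      have := (Commute.inv_left (mem_centralizer_singleton_iff.1 hk.1)).mul_left
        (hcomm _ (mul_mem (hHN hk.1) hgY) hkg (mul_mem hk.2 hgC))
      rwa [inv_mul_cancel_left] at this
    refine mem_centralizer_iff.2 fun x hx => Subtype.ext ?_
    exact mem_centralizer_iff.1 (mem_centralizer_of_sylow P hcyc hgP hyP hy1 hgy) _ hx
  obtain ⟨L₀, hL₀n, hcL⟩ :
      ∃ L₀ : Subgroup (core c), L₀.Normal ∧ L₀.IsComplement' (P' : Subgroup (core c)) :=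
    ⟨_, inferInstance, MonoidHom.ker_transferSylow_isComplement' P' hNC'⟩
  haveI : L₀.Normal := hL₀n
  have hkl : Nonempty ((S : Subgroup G) ≃* DihedralGroup 2) := by
    have := h.iso
    rwa [h2] at this
  refine ⟨{
    p := p, hp := hp, hp2 := hp2, P := P, cyc := hcyc, hp7 := ?_, relIndex_three := ?_
    y := y, y_mem := hyP, y_ord := hy, inv_zero := ?_, S := S, klein := hkl, t := t
    t_mem := h.dih.dz_mem, t_ord := h.dih.dz_two, one := h.one, O := core c, O_le := core_le
    O_norm := core_norm, O_odd := core_odd, O_index := by rw [h.core_relIndex, h2]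
    P_le := hPO
    K := L₀.map (core c).subtype, K_le := map_subtype_le _, K_norm := ?_, K_sup := ?_
    K_coprime := ?_ }⟩
  · have h3 := hrel.2
    have := hp.two_le
    have := Nat.le_of_dvd (by omega) h3
    by_contra hlt
    interval_cases p <;> first | omega | norm_num at hp
  · rw [relIndex_sylow P hcyc hyP hy1]; exact hrel.1
  · rw [invCount, Nat.card_eq_zero]
    left
    refine ⟨fun ⟨i, hi, hiy⟩ => ?_⟩
    have hiN : i ∈ NY := mem_normalizer_iff' fun x hx => by
      obtain ⟨j, rfl⟩ := mem_zpowers_iff.1 hx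
      rw [← conj_zpow, hiy]
      exact zpow_mem (inv_mem (mem_zpowers y)) _
    have h3 := hcube' i hiN
    rw [pow_succ, pow_two, H65.mul_self_of_two hi, one_mul] at h3
    rw [cj_eq_iff_commute.2 h3, ← mul_eq_one_iff_eq_inv, ← pow_two] at hiy
    have := orderOf_dvd_of_pow_eq_one hiy
    rw [hy, Nat.prime_dvd_prime_iff_eq hp Nat.prime_two] at this
    exact hp2 this
  · intro g hg
    refine mem_normalizer_iff' fun x hx => ?_
    obtain ⟨a, ha, rfl⟩ := hx
    exact ⟨⟨g, hg⟩ * a * ⟨g, hg⟩⁻¹, (inferInstance : L₀.Normal).conj_mem a ha _, rfl⟩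
  · have hPm : (P : Subgroup G) = (P' : Subgroup (core c)).map (core c).subtype := by
      rw [hP', Sylow.coe_subtype, subgroupOf_map_subtype, inf_eq_left.2 hPO]
    rw [hPm, ← Subgroup.map_sup, hcL.sup_eq_top, ← MonoidHom.range_eq_map, Subgroup.range_subtype]
  · rw [card_map_of_injective (core c).subtype_injective, ← hcL.index_eq_card]
    exact P'.not_dvd_index

theorem free (hK : KleinBad G → False) : h.Free := by
  rcases h.order_cases with h2 | h4
  · by_contra hne
    obtain ⟨B⟩ := h.kleinBad_of_two h2 hne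
    exact hK B
  · exact h.free_of_four h4

end Cfg

end H75.CSy
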