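import Cfsg.Agent.H75.CSy.Four

/-!
The centraliser of an element inverted by the rotation.
-/

set_option autoImplicit false
set_option linter.unusedSectionVars false
set_option linter.style.haveILetI false

open Cfsg Subgroup H76.CSy H68

namespace H75.CSy

universe u

variable {G : Type u} [Group G] [Finite G]

theorem Tri.mem {b t τ : G} (h : Tri b t τ) (htt : t * t = 1) (hττ : τ * τ = 1)
    (hc : t * τ = τ * t) {M : Subgroup G} (h1 : t * b * t⁻¹ * b⁻¹ ∈ M)
    (h2 : τ * b * τ⁻¹ * b⁻¹ ∈ M) : t ∈ M ∧ τ ∈ M := by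
  have hti : t⁻¹ = t := inv_eq_of_mul_eq_one_right htt
  have hτi : τ⁻¹ = τ := inv_eq_of_mul_eq_one_right hττ
  have e1 : t * b * t⁻¹ * b⁻¹ = t * (b * t * b⁻¹) := by rw [hti]; group
  have e2 : τ * b * τ⁻¹ * b⁻¹ = τ * (b * τ * b⁻¹) := by rw [hτi]; group
  rw [e1] at h1
  rw [e2] at h2
  rcases h with ⟨ha, hb⟩ | ⟨ha, hb⟩
  · rw [ha, ← mul_assoc, htt, one_mul] at h1
    rw [hb] at h2
    have := mul_mem (inv_mem h1) h2
    rw [inv_mul_cancel_left] at this
    exact ⟨this, h1⟩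
  · rw [ha] at h1
    rw [hb, hc, ← mul_assoc, hττ, one_mul] at h2
    have := mul_mem (inv_mem h2) h1
    rw [inv_mul_cancel_left] at this
    exact ⟨h2, this⟩

namespace Cfg

variable {S : Sylow 2 G} {c : G} {h : Cfg S c} {p : ℕ} {y τ : G}

theorem Inv.pm_S (d : Inv h p y τ) {s : G} (hs : s ∈ (S : Subgroup G)) :
    Commute s y ∨ s * y * s⁻¹ = y⁻¹ := by
  refine h.of_reflections (P := fun s => Commute s y ∨ s * y * s⁻¹ = y⁻¹) ?_
    (fun x hx hxA => h.reflection_pm d.free d.prime d.odd d.mem d.ord hx hxA) hs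
  intro a b ha hb
  rcases hb with hb | hb
  · rcases ha with ha | ha
    · exact Or.inl (ha.mul_left hb)
    · right
      calc a * b * y * (a * b)⁻¹ = a * (b * y * b⁻¹) * a⁻¹ := by group
        _ = y⁻¹ := by rw [cj_eq_iff_commute.2 hb, ha]
  · rcases ha with ha | ha
    · right
      calc a * b * y * (a * b)⁻¹ = a * (b * y * b⁻¹) * a⁻¹ := by group
        _ = (a * y * a⁻¹)⁻¹ := by rw [hb]; group
        _ = y⁻¹ := by rw [cj_eq_iff_commute.2 ha]
    · left
      refine cj_eq_iff_commute.1 ?_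
      calc a * b * y * (a * b)⁻¹ = a * (b * y * b⁻¹) * a⁻¹ := by group
        _ = (a * y * a⁻¹)⁻¹ := by rw [hb]; group
        _ = y := by rw [ha, inv_inv]

theorem Inv.pm_ct (d : Inv h p y τ) {g : G} (hg : g ∈ centralizer ({dz c} : Set G)) :
    Commute g y ∨ g * y * g⁻¹ = y⁻¹ := by
  obtain ⟨o, ho, s, hs, rfl⟩ := h.decomp hg
  have hoy := h.core_commute d.free ho d.mem
  rcases d.pm_S hs with e | e
  · exact Or.inl (hoy.mul_left e)
  · right
    calc o * s * y * (o * s)⁻¹ = o * (s * y * s⁻¹) * o⁻¹ := by group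
      _ = y⁻¹ := by rw [e, cj_eq_iff_commute.2 hoy.inv_right]

/-- The elements of `S` centralising `y`. -/
theorem Inv.mem_D (d : Inv h p y τ) {s : G} (hs : s ∈ (S : Subgroup G)) (hsy : Commute s y) :
    ∃ i : ℤ, s = (c * c) ^ i ∨ s = τ * (c * c) ^ i := by
  have hpow : ∀ i : ℤ, Commute (c ^ i) y → ∃ j : ℤ, c ^ i = (c * c) ^ j := by
    intro i hi
    rcases Int.even_or_odd i with ⟨j, hj⟩ | ⟨j, hj⟩
    · exact ⟨j, by rw [hj, ← two_mul, zpow_mul, zpow_two]⟩
    · exfalso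
      refine d.not_commute ?_
      have h1 : c ^ i = (c * c) ^ j * c := by rw [hj, zpow_add_one, zpow_mul, zpow_two]
      rw [h1] at hi
      have := ((d.commute_sq.zpow_left j).inv_left).mul_left hi
      rwa [inv_mul_cancel_left] at this
  by_cases hsA : s ∈ zpowers c
  · obtain ⟨i, rfl⟩ := mem_zpowers_iff.1 hsA
    exact (hpow i hsy).imp fun _ => Or.inl
  · obtain ⟨i, hi⟩ := mem_zpowers_iff.1 (h.dih.idx τ d.τ_mem s hs d.τ_out hsA)
    have hs' : s = τ * c ^ i := by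
      rw [hi, ← mul_assoc, h.dih.invol τ d.τ_mem d.τ_out, one_mul]
    rw [hs'] at hsy
    have h1 := d.τ_comm.inv_left.mul_left hsy
    rw [inv_mul_cancel_left] at h1
    obtain ⟨j, hj⟩ := hpow i h1
    exact ⟨j, Or.inr (by rw [hs', hj])⟩

/-- The part of `S` centralising `y` has index two. -/
theorem Inv.relIndex_D (d : Inv h p y τ) :
    (centralizer ({y} : Set G)).relIndex (S : Subgroup G) = 2 := by
  rw [relIndex, index_eq_two_iff]
  refine ⟨⟨c, h.dih.mem⟩, fun ⟨b, hb⟩ => ?_⟩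
  simp only [mem_subgroupOf, MulMemClass.mk_mul_mk, mem_centralizer_singleton_iff]
  rcases d.pm_S hb with e | e
  · refine Or.inr ⟨e.eq, fun e' => d.not_commute ?_⟩
    have := e.inv_left.mul_left (show Commute (b * c) y from e')
    rwa [inv_mul_cancel_left] at this
  · refine Or.inl ⟨?_, fun e' => ?_⟩
    · refine (cj_eq_iff_commute.1 ?_ : Commute (b * c) y).eq
      calc b * c * y * (b * c)⁻¹ = b * (c * y * c⁻¹) * b⁻¹ := by group
        _ = (b * y * b⁻¹)⁻¹ := by rw [d.inv]; group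
        _ = y := by rw [e, inv_inv]
    · rw [cj_eq_iff_commute.2 e', ← mul_eq_one_iff_eq_inv] at e
      exact d.ne_one (eq_one_of_sq_of_odd e (core_odd' d.mem))

/-- A Sylow `2`-subgroup of `C(y)` inside `S`. -/
theorem Inv.exists_sylow (d : Inv h p y τ) :
    ∃ T : Sylow 2 (centralizer ({y} : Set G)),
      (T : Subgroup (centralizer ({y} : Set G))).map (centralizer ({y} : Set G)).subtype =
        (S : Subgroup G) ⊓ centralizer ({y} : Set G) := by
  haveI : Fact (Nat.Prime 2) := ⟨Nat.prime_two⟩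
  set H := centralizer ({y} : Set G) with hH
  obtain ⟨T, hT⟩ := (S.2.comap_subtype (K := H) :
    IsPGroup 2 ((S : Subgroup G).subgroupOf H)).exists_le_sylow
  refine ⟨T, (eq_of_le_of_card_ge (fun x hx => ?_) ?_).symm⟩
  · exact ⟨⟨x, hx.2⟩, hT hx.1, rfl⟩
  · have h1 := h.card_two_le d.free d.mem d.ne_one (T.2.map H.subtype) (by
      rintro _ ⟨a, -, rfl⟩
      exact mem_centralizer_singleton_iff.1 a.2)
    refine (Nat.le_of_dvd (orderOf_pos c) h1).trans (le_of_eq ?_)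
    have h2 := (H.subgroupOf (S : Subgroup G)).card_mul_index
    rw [← relIndex, d.relIndex_D, h.card_S, mul_comm 2] at h2
    rw [← Nat.eq_of_mul_eq_mul_right two_pos h2]
    exact Nat.card_congr
      ⟨fun x => ⟨x, x.1.2, x.2⟩, fun x => ⟨⟨x, x.2.1⟩, x.2.2⟩, fun _ => rfl, fun _ => rfl⟩

theorem Inv.τ_H (d : Inv h p y τ) : τ ∈ centralizer ({y} : Set G) :=
  mem_centralizer_singleton_iff.2 d.τ_comm.eq

theorem Inv.t_H (d : Inv h p y τ) : dz c ∈ centralizer ({y} : Set G) :=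
  mem_centralizer_singleton_iff.2 (core_comm d.mem).symm.eq

theorem Inv.tt (_d : Inv h p y τ) : dz c * dz c = 1 := H65.mul_self_of_two h.dih.dz_two

theorem Inv.ττ (d : Inv h p y τ) : τ * τ = 1 := h.dih.invol τ d.τ_mem d.τ_out

/-- Both involutions are commutators in `C(y)`. -/
theorem Inv.mem_derived (d : Inv h p y τ) :
    dz c ∈ ⁅centralizer ({y} : Set G), centralizer ({y} : Set G)⁆ ∧
      τ ∈ ⁅centralizer ({y} : Set G), centralizer ({y} : Set G)⁆ := by
  obtain ⟨b, hb, htri⟩ := d.exists_tri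
  have hbH : b ∈ centralizer ({y} : Set G) := mem_centralizer_singleton_iff.2 hb.eq
  exact htri.mem d.tt d.ττ (h.dih.dz_comm d.τ_mem).symm
    (commutator_mem_commutator d.t_H hbH) (commutator_mem_commutator d.τ_H hbH)

/-- All of `S ⊓ C(y)` lies in the derived group of `C(y)`. -/
theorem Inv.S_le_derived (d : Inv h p y τ) :
    (S : Subgroup G) ⊓ centralizer ({y} : Set G) ≤
      ⁅centralizer ({y} : Set G), centralizer ({y} : Set G)⁆ := by
  intro s hs
  have h1 := d.mem_derived.2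
  have h2 := mul_mem (inv_mem h1) d.shift.mem_derived.2
  rw [inv_mul_cancel_left] at h2
  obtain ⟨i, e | e⟩ := d.mem_D hs.1 (mem_centralizer_singleton_iff.1 hs.2) <;> rw [e]
  · exact zpow_mem h2 i
  · exact mul_mem h1 (zpow_mem h2 i)

theorem Inv.tri_conj (d : Inv h p y τ) :
    ∃ g, Commute g y ∧ g * τ * g⁻¹ = dz c := by
  obtain ⟨b, hb, h1 | h1⟩ := d.exists_tri
  · exact ⟨b, hb, h1.2⟩
  · refine ⟨b⁻¹, hb.inv_left, ?_⟩
    rw [← h1.1]; group

/-- The involutions of `C(y)` are conjugate in it to the central one. -/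
theorem Inv.one_H (d : Inv h p y τ) {u : G} (hu : orderOf u = 2) (huy : Commute u y) :
    ∃ b : G, Commute b y ∧ b * u * b⁻¹ = dz c := by
  haveI : Fact (Nat.Prime 2) := ⟨Nat.prime_two⟩
  obtain ⟨T, hT⟩ := d.exists_sylow
  obtain ⟨b, hb, hbu⟩ := exists_cj_le_of_sylow T (IsPGroup.of_card (n := 1)
    (by rw [Nat.card_zpowers, hu, pow_one]) : IsPGroup 2 (zpowers u))
    (zpowers_le.2 (mem_centralizer_singleton_iff.2 huy.eq))
  have hby : Commute b y := mem_centralizer_singleton_iff.1 hb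
  rw [hT] at hbu
  have hv : b * u * b⁻¹ ∈ (S : Subgroup G) ⊓ centralizer ({y} : Set G) :=
    hbu ⟨u, mem_zpowers u, rfl⟩
  have hv2 : orderOf (b * u * b⁻¹) = 2 := by rw [← MulAut.conj_apply, MulEquiv.orderOf_eq]; exact hu
  suffices ∃ g, Commute g y ∧ g * (b * u * b⁻¹) * g⁻¹ = dz c by
    obtain ⟨g, hg, hgv⟩ := this
    exact ⟨g * b, hg.mul_left hby, by rw [← hgv]; group⟩
  by_cases hvA : b * u * b⁻¹ ∈ zpowers c
  · exact ⟨1, Commute.one_left _, by rw [h.dih.dz_unique hv2 hvA]; group⟩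
  obtain ⟨i, e | e⟩ := d.mem_D hv.1 (mem_centralizer_singleton_iff.1 hv.2)
  · exact absurd (e ▸ zpow_mem (mul_mem (mem_zpowers c) (mem_zpowers c)) i) hvA
  have key : ∀ x ∈ (S : Subgroup G), x ∉ zpowers c → ∀ m : ℤ,
      (c * c) ^ m * (x * (c * c) ^ (2 * m)) * ((c * c) ^ m)⁻¹ = x := by
    intro x hx hxA m
    have hk : ∀ k : ℤ, (c * c) ^ k = c ^ (2 * k) := fun k => by rw [zpow_mul, zpow_two]
    have h1 := h.dih.zpow_mul_comm' hx hxA (-(2 * m))
    rw [neg_neg] at h1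
    rw [hk, hk, ← zpow_neg, ← mul_assoc, ← h1, mul_assoc, mul_assoc, ← zpow_add, ← zpow_add,
      show -(2 * m) + (2 * (2 * m) + -(2 * m)) = 0 by ring, zpow_zero, mul_one]
  rcases Int.even_or_odd i with ⟨m, hm⟩ | ⟨m, hm⟩
  · obtain ⟨g, hg, hgv⟩ := d.tri_conj
    refine ⟨g * (c * c) ^ m, hg.mul_left (d.commute_sq.zpow_left m), ?_⟩
    rw [show g * (c * c) ^ m * (b * u * b⁻¹) * (g * (c * c) ^ m)⁻¹
      = g * ((c * c) ^ m * (b * u * b⁻¹) * ((c * c) ^ m)⁻¹) * g⁻¹ by group, e, hm, ← two_mul,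
      key τ d.τ_mem d.τ_out, hgv]
  · obtain ⟨g, hg, hgv⟩ := d.shift.tri_conj
    refine ⟨g * (c * c) ^ m, hg.mul_left (d.commute_sq.zpow_left m), ?_⟩
    rw [show g * (c * c) ^ m * (b * u * b⁻¹) * (g * (c * c) ^ m)⁻¹
      = g * ((c * c) ^ m * (b * u * b⁻¹) * ((c * c) ^ m)⁻¹) * g⁻¹ by group, e, hm,
      show τ * (c * c) ^ (2 * m + 1) = τ * (c * c) * (c * c) ^ (2 * m) by
        rw [mul_assoc, ← zpow_one_add, add_comm 1],
      key _ d.shift.τ_mem d.shift.τ_out, hgv]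

/-- The automiser of `⟨y⟩` is `±1`. -/
theorem Inv.pm (d : Inv h p y τ) {g : G} (hg : g ∈ normalizer (zpowers y : Set G)) :
    Commute g y ∨ g * y * g⁻¹ = y⁻¹ := by
  obtain ⟨b, hb, hbu⟩ := d.one_H
    (u := g * dz c * g⁻¹) (by rw [← MulAut.conj_apply, MulEquiv.orderOf_eq]; exact h.dih.dz_two)
    (conj_commute hg (core_comm d.mem).symm)
  have hbg : b * g ∈ centralizer ({dz c} : Set G) :=
    mem_centralizer_singleton_iff.2 (cj_eq_iff_commute.1 (by
      rw [show b * g * dz c * (b * g)⁻¹ = b * (g * dz c * g⁻¹) * b⁻¹ by group, hbu])).eq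
  rcases d.pm_ct hbg with e | e
  · left
    have := hb.inv_left.mul_left e
    rwa [inv_mul_cancel_left] at this
  · right
    calc g * y * g⁻¹ = b⁻¹ * (b * g * y * (b * g)⁻¹) * b := by group
      _ = b⁻¹ * y⁻¹ * b := by rw [e]
      _ = y⁻¹ := by rw [(hb.inv_left.inv_right).eq, inv_mul_cancel_right]

/-- Elements of `S` centralising `τ` centralise `y`. -/
theorem Inv.cent_tau (d : Inv h p y τ) {s : G} (hs : s ∈ (S : Subgroup G)) (hsτ : Commute s τ) :
    s = 1 ∨ s = dz c ∨ s = τ ∨ s = dz c * τ := by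
  have key : ∀ v ∈ (S : Subgroup G), v ∈ zpowers c → Commute v τ → v = 1 ∨ v = dz c := by
    intro v hv hvA hvτ
    obtain ⟨i, rfl⟩ := mem_zpowers_iff.1 hvA
    have h1 := h.dih.conj_zpow' d.τ_mem d.τ_out i
    rw [cj_eq_iff_commute.2 hvτ.symm, zpow_neg, ← mul_eq_one_iff_eq_inv] at h1
    by_cases h2 : c ^ i = 1
    · exact Or.inl h2
    · exact Or.inr (h.dih.dz_unique (H65.two_iff.2 ⟨h1, h2⟩) hvA)
  by_cases hsA : s ∈ zpowers c
  · exact (key s hs hsA hsτ).imp id Or.inl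
  · have e : s = s * τ * τ := by rw [mul_assoc, d.ττ, mul_one]
    rcases key _ (mul_mem hs d.τ_mem) (h.dih.idx s hs τ d.τ_mem hsA d.τ_out)
      (hsτ.mul_left (Commute.refl τ)) with h1 | h1
    · right; right; left; rw [e, h1, one_mul]
    · right; right; right; rw [e, h1]

/-- `C(t) ∩ C(τ)` is the centraliser of `τ` in the core times the four-group. -/
theorem Inv.cent_four (d : Inv h p y τ) {g : G} (hgt : g ∈ centralizer ({dz c} : Set G))
    (hgτ : Commute g τ) :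
    ∃ o ∈ core c, Commute o τ ∧ ∃ s, (s = 1 ∨ s = dz c ∨ s = τ ∨ s = dz c * τ) ∧ o * s = g := by
  obtain ⟨o, ho, s, hs, rfl⟩ := h.decomp hgt
  obtain ⟨h1, h2⟩ := h.decomp_comm ho hs d.τ_mem hgτ
  exact ⟨o, ho, h1, s, d.cent_tau hs h2, rfl⟩

theorem Inv.cent_four_commute (d : Inv h p y τ) {g : G} (hgt : Commute g (dz c))
    (hgτ : Commute g τ) : Commute g y := by
  obtain ⟨o, ho, -, s, hs, rfl⟩ := d.cent_four (mem_centralizer_singleton_iff.2 hgt.eq) hgτ
  refine (h.core_commute d.free ho d.mem).mul_left ?_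
  have hty : Commute (dz c) y := (core_comm d.mem).symm
  rcases hs with rfl | rfl | rfl | rfl
  exacts [Commute.one_left _, hty, d.τ_comm, hty.mul_left d.τ_comm]

end Cfg

end H75.CSy
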