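import Cfsg.Agent.H75.CSy.Basic
import Cfsg.Agent.H76.CSy.Defs
import Cfsg.Agent.H68.DihedralFusion
import Cfsg.Agent.H1.Cores

/-!
The centraliser of an involution in a group of type `Hyp` with dihedral Sylow `2`-subgroups.
-/

set_option autoImplicit false
set_option linter.unusedSectionVars false
set_option linter.style.haveILetI false

open Cfsg Subgroup H76.CSy H68

namespace H75.CSy

universe u

variable {G : Type u} [Group G] [Finite G]

/-- A dihedral Sylow `2`-subgroup with chosen rotation. -/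
structure Cfg (S : Sylow 2 G) (c : G) : Prop where
  hyp : Hyp G
  dih : Dih (S : Subgroup G) c
  iso : Nonempty ((S : Subgroup G) ≃* DihedralGroup (orderOf c))

/-- The core of the centraliser of the central involution. -/
noncomputable def core (c : G) : Subgroup G := centralizerPPrimeCore 2 (dz c)

theorem exists_cfg (h : Hyp G) (S : Sylow 2 G)
    (hS : ∃ n : ℕ, 2 ≤ n ∧ Nonempty ((S : Subgroup G) ≃* DihedralGroup n)) : ∃ c, Cfg S c := by
  obtain ⟨n, hn, ⟨e⟩⟩ := hS
  obtain ⟨c, hD, hc⟩ := exists_dih S.isPGroup' hn e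
  exact ⟨c, h, hD, ⟨hc.symm ▸ e⟩⟩

namespace Cfg

variable {S : Sylow 2 G} {c : G} (h : Cfg S c)
include h

theorem two_le : 2 ≤ orderOf c := Nat.le_of_dvd (orderOf_pos c) h.dih.two_dvd

theorem card_S : Nat.card (S : Subgroup G) = 2 * orderOf c := h.dih.card_eq

theorem order_cases : orderOf c = 2 ∨ 4 ∣ orderOf c := by
  obtain ⟨k, hk, hc⟩ := h.dih.ord
  rcases (show k = 1 ∨ 2 ≤ k by omega) with rfl | h2
  · exact Or.inl (by simpa using hc)
  · exact Or.inr (hc ▸ pow_dvd_pow 2 h2)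

theorem dz_eq_of_two (h2 : orderOf c = 2) : dz c = c := by simp [dz, h2]

theorem sq_of_two (h2 : orderOf c = 2) {x : G} (hx : x ∈ (S : Subgroup G)) : x * x = 1 := by
  by_cases hxA : x ∈ zpowers c
  · have := orderOf_dvd_iff_pow_eq_one.1 (h2 ▸ orderOf_dvd_of_mem_zpowers hxA)
    rwa [pow_two] at this
  · exact h.dih.invol x hx hxA

theorem comm_of_two (h2 : orderOf c = 2) {x y : G} (hx : x ∈ (S : Subgroup G))
    (hy : y ∈ (S : Subgroup G)) : Commute x y := by
  have h3 := h.sq_of_two h2 (mul_mem hx hy)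
  have hxi : x⁻¹ = x := inv_eq_of_mul_eq_one_right (h.sq_of_two h2 hx)
  have hyi : y⁻¹ = y := inv_eq_of_mul_eq_one_right (h.sq_of_two h2 hy)
  have := eq_inv_of_mul_eq_one_left h3
  rw [mul_inv_rev, hxi, hyi] at this
  exact this

theorem index_ne_two (H : Subgroup G) : H.index ≠ 2 := by
  intro hH
  haveI := normal_of_index_eq_two hH
  haveI := h.hyp.simple
  rcases (inferInstance : H.Normal).eq_bot_or_eq_top with e | e
  · rw [e, index_bot] at hH
    haveI := isCyclic_of_prime_card (α := G) (p := 2) hH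
    letI := IsCyclic.commGroup (α := G)
    exact h.hyp.nonab ⟨⟨mul_comm⟩⟩
  · rw [e, index_top] at hH
    omega

theorem one : OneClass G (dz c) := fun _ hs => (isConj_dz S h.dih h.index_ne_two hs).symm

theorem S_le : (S : Subgroup G) ≤ centralizer ({dz c} : Set G) := fun _ hs =>
  mem_centralizer_singleton_iff.2 (h.dih.dz_comm hs)

theorem comm_dz {s : G} (hs : s ∈ (S : Subgroup G)) : Commute s (dz c) := h.dih.dz_comm hs

omit h in
theorem core_le : core c ≤ centralizer ({dz c} : Set G) := map_subtype_le _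

omit h in
theorem core_norm : centralizer ({dz c} : Set G) ≤ normalizer (core c : Set G) := by
  intro g hg
  refine mem_normalizer_iff' fun x hx => ?_
  obtain ⟨a, ha, rfl⟩ := hx
  exact ⟨⟨g, hg⟩ * a * ⟨g, hg⟩⁻¹, (H1.pPrimeCore_normal' 2 _).conj_mem a ha _, rfl⟩

omit h in
theorem core_odd : Odd (Nat.card (core c)) := by
  rw [core, centralizerPPrimeCore, Subgroup.card_map_of_injective (Subgroup.subtype_injective _)]
  exact Nat.coprime_two_right.1 (H1.card_pPrimeCore_coprime 2 _)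

omit h in
theorem core_odd' {x : G} (hx : x ∈ core c) : Odd (orderOf x) := odd_orderOf_of_mem core_odd hx

omit h in
theorem core_comm {x : G} (hx : x ∈ core c) : Commute x (dz c) :=
  mem_centralizer_singleton_iff.1 (core_le hx)

theorem core_cj {s x : G} (hs : s ∈ (S : Subgroup G)) (hx : x ∈ core c) :
    s * x * s⁻¹ ∈ core c := cj_mem (core_norm (h.S_le hs)) hx

theorem disj {x : G} (hx : x ∈ core c) (hxS : x ∈ (S : Subgroup G)) : x = 1 := by
  obtain ⟨k, hk⟩ := S.2 ⟨x, hxS⟩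
  exact eq_one_of_odd_of_two_pow (core_odd' hx) (congrArg Subtype.val hk)

theorem decomp {g : G} (hg : g ∈ centralizer ({dz c} : Set G)) :
    ∃ o ∈ core c, ∃ s ∈ (S : Subgroup G), o * s = g := by
  haveI : Fact (Nat.Prime 2) := ⟨Nat.prime_two⟩
  obtain ⟨e⟩ := h.iso
  set C := centralizer ({dz c} : Set G) with hC
  obtain ⟨N, hN, hNodd, k, hNk⟩ := H65.exists_complement_of_dihedral S _ e h.dih.dz_two
  set T := (S : Subgroup G).subgroupOf C with hT
  have htop : N ⊔ T = ⊤ := by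
    rw [← index_eq_one]
    have h1 : (N ⊔ T).index ∣ 2 ^ k := hNk ▸ index_dvd_of_le le_sup_left
    have h2 : (N ⊔ T).index ∣ (S : Subgroup G).index :=
      (index_dvd_of_le le_sup_right).trans (relIndex_dvd_index_of_le h.S_le)
    refine Nat.eq_one_of_dvd_coprimes ?_ h1 h2
    exact ((Nat.prime_two.coprime_iff_not_dvd).2 S.not_dvd_index).pow_left k
  obtain ⟨n, hn, s, hs, hgs⟩ : ∃ n ∈ N, ∃ s ∈ T, n * s = (⟨g, hg⟩ : C) :=
    mem_sup_of_normal_left.1 (htop ▸ mem_top _)
  exact ⟨n, ⟨n, H1.le_pPrimeCore (Nat.coprime_two_right.2 hNodd) hn, rfl⟩, s, hs,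
    congrArg Subtype.val hgs⟩

theorem decomp_comm {o s x : G} (ho : o ∈ core c) (hs : s ∈ (S : Subgroup G))
    (hx : x ∈ (S : Subgroup G)) (hc : Commute (o * s) x) : Commute o x ∧ Commute s x := by
  have h1 : x * (o * s) * x⁻¹ = o * s := cj_eq_iff_commute.2 hc.symm
  have h2 : o⁻¹ * (x * o * x⁻¹) = s * (x * s * x⁻¹)⁻¹ := by
    rw [show x * (o * s) * x⁻¹ = (x * o * x⁻¹) * (x * s * x⁻¹) by group] at h1
    rw [eq_mul_inv_iff_mul_eq, mul_assoc, h1, inv_mul_cancel_left]
  have h3 : o⁻¹ * (x * o * x⁻¹) = 1 := h.disj (mul_mem (inv_mem ho) (h.core_cj hx ho))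
    (h2 ▸ mul_mem hs (inv_mem (mul_mem (mul_mem hx hs) (inv_mem hx))))
  rw [h3, eq_comm, mul_inv_eq_one] at h2
  exact ⟨(cj_eq_iff_commute.1 (inv_mul_eq_one.1 h3).symm).symm,
    (cj_eq_iff_commute.1 h2.symm).symm⟩

theorem odd_mem {g : G} (hg : g ∈ centralizer ({dz c} : Set G)) (ho : Odd (orderOf g)) :
    g ∈ core c := by
  obtain ⟨o, hoO, s, hs, rfl⟩ := h.decomp hg
  set C := centralizer ({dz c} : Set G) with hC
  haveI hn := normal_subgroupOf_of_le_normalizer (core_norm (c := c))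
  obtain ⟨k, hk⟩ := S.2 ⟨s, hs⟩
  have hk' : s ^ 2 ^ k = 1 := congrArg Subtype.val hk
  set π := QuotientGroup.mk' ((core c).subgroupOf C) with hπ
  have he : π ⟨o * s, hg⟩ = π ⟨s, h.S_le hs⟩ := by
    refine (QuotientGroup.mk'_eq_mk' _).2 ⟨⟨s⁻¹ * o⁻¹ * s, ?_⟩, ?_, ?_⟩
    · exact mul_mem (mul_mem (inv_mem (h.S_le hs)) (inv_mem (core_le hoO))) (h.S_le hs)
    · show s⁻¹ * o⁻¹ * s ∈ core c
      have := h.core_cj (inv_mem hs) (inv_mem hoO)
      rwa [inv_inv] at this
    · exact Subtype.ext (by show o * s * (s⁻¹ * o⁻¹ * s) = s; group)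
  have h2 : π (⟨o * s, hg⟩ : C) ^ 2 ^ k = 1 := by
    rw [he, ← map_pow, show (⟨s, h.S_le hs⟩ : C) ^ 2 ^ k = 1 from Subtype.ext hk', map_one]
  rw [← map_pow, hπ, QuotientGroup.mk'_apply, QuotientGroup.eq_one_iff] at h2
  refine mem_of_pow_coprime ?_ (show (o * s) ^ 2 ^ k ∈ core c from h2)
  exact (Nat.coprime_two_left.2 ho).pow_left k

/-- Elements of odd order centralising an involution are conjugate into the core. -/
theorem dvd_card_core {u x : G} (hu : orderOf u = 2) (hc : Commute x u) (ho : Odd (orderOf x)) :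
    orderOf x ∣ Nat.card (core c) := by
  obtain ⟨g, hg⟩ := isConj_iff.1 (h.one u hu).symm
  have hmem : g * x * g⁻¹ ∈ core c := by
    refine h.odd_mem (mem_centralizer_singleton_iff.2 ?_) ?_
    · rw [← hg]; exact (cjc hc).eq
    · rwa [← MulAut.conj_apply, MulEquiv.orderOf_eq]
  have := Subgroup.orderOf_dvd_natCard _ hmem
  rwa [← MulAut.conj_apply, MulEquiv.orderOf_eq] at this

theorem card_ct :
    Nat.card (centralizer ({dz c} : Set G)) = 2 * orderOf c * Nat.card (core c) := by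
  let f : core c × (S : Subgroup G) → centralizer ({dz c} : Set G) := fun x =>
    ⟨(x.1 : G) * (x.2 : G), mul_mem (core_le x.1.2) (h.S_le x.2.2)⟩
  have hf : Function.Bijective f := by
    constructor
    · rintro ⟨⟨o, ho⟩, ⟨s, hs⟩⟩ ⟨⟨o', ho'⟩, ⟨s', hs'⟩⟩ e
      have e' : o * s = o' * s' := congrArg Subtype.val e
      have h1 : o'⁻¹ * o = s' * s⁻¹ := by
        rw [eq_mul_inv_iff_mul_eq, mul_assoc, e', inv_mul_cancel_left]
      have h2 : o'⁻¹ * o = 1 := h.disj (mul_mem (inv_mem ho') ho) (h1 ▸ mul_mem hs' (inv_mem hs))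
      rw [h2, eq_comm, mul_inv_eq_one] at h1
      obtain rfl : o' = o := inv_mul_eq_one.1 h2
      subst h1; rfl
    · rintro ⟨g, hg⟩
      obtain ⟨o, ho, s, hs, rfl⟩ := h.decomp hg
      exact ⟨(⟨o, ho⟩, ⟨s, hs⟩), rfl⟩
  rw [← Nat.card_congr (Equiv.ofBijective f hf), Nat.card_prod, h.card_S, mul_comm]

theorem core_relIndex : (core c).relIndex (centralizer ({dz c} : Set G)) = 2 * orderOf c := by
  have h1 := ((core c).subgroupOf (centralizer ({dz c} : Set G))).card_mul_index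
  rw [Nat.card_congr (subgroupOfEquivOfLe core_le).toEquiv, h.card_ct] at h1
  rw [relIndex]
  exact Nat.eq_of_mul_eq_mul_left (Nat.pos_of_ne_zero (Nat.card_pos).ne') (by rw [h1, mul_comm])

theorem centralizer_ne_top {y : G} (hy : y ≠ 1) : centralizer ({y} : Set G) ≠ ⊤ := by
  intro e
  haveI := h.hyp.simple
  have hc : y ∈ center G := mem_center_iff.2 fun g =>
    mem_centralizer_singleton_iff.1 (e ▸ mem_top g)
  rcases (inferInstance : (center G).Normal).eq_bot_or_eq_top with e' | e'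
  · exact hy (mem_bot.1 (e' ▸ hc))
  · exact h.hyp.nonab ⟨⟨fun a b => (mem_center_iff.1 (e' ▸ mem_top b) a)⟩⟩

/-- No nontrivial element of the core centralises `S`. -/
def Free (_h : Cfg S c) : Prop :=
  ∀ x ∈ core c, (∀ s ∈ (S : Subgroup G), Commute s x) → x = 1

theorem card_two_le (hR : h.Free) {y : G} (hy : y ∈ core c) (hy1 : y ≠ 1) {T : Subgroup G}
    (hT : IsPGroup 2 T) (hTy : ∀ x ∈ T, Commute x y) : Nat.card T ∣ orderOf c := by
  haveI : Fact (Nat.Prime 2) := ⟨Nat.prime_two⟩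
  obtain ⟨k, -, hk⟩ := h.dih.ord
  obtain ⟨b, hb⟩ := exists_cj_le S hT
  have hcard : Nat.card (H70.cj b T) = Nat.card T :=
    card_map_of_injective (MulAut.conj b).injective
  obtain ⟨a, ha⟩ := hT.exists_card_eq
  have hd := card_dvd_of_le hb
  rw [hcard, h.card_S, ha, hk, ← pow_succ'] at hd
  rw [ha, hk]
  rcases Nat.lt_or_ge a (k + 1) with h1 | h1
  · exact pow_dvd_pow 2 (by omega)
  exfalso
  have hak : a = k + 1 := le_antisymm ((Nat.pow_dvd_pow_iff_le_right one_lt_two).1 hd) h1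
  have he : H70.cj b T = (S : Subgroup G) :=
    eq_of_le_of_card_ge hb (by rw [hcard, h.card_S, ha, hk, hak, pow_succ'])
  have hcomm : ∀ s ∈ (S : Subgroup G), Commute s (b * y * b⁻¹) := by
    intro s hs
    rw [← he] at hs
    obtain ⟨x, hx, rfl⟩ := hs
    exact cjc (hTy x hx)
  have hmem : b * y * b⁻¹ ∈ core c :=
    h.odd_mem (mem_centralizer_singleton_iff.2 (hcomm _ h.dih.dz_mem).eq.symm)
      (by rw [← MulAut.conj_apply, MulEquiv.orderOf_eq]; exact core_odd' hy)
  exact hy1 (conj_eq_one_iff.1 (hR _ hmem hcomm))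

end Cfg

end H75.CSy
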