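import Cfsg.Agent.H75.CSy.Basic
import Cfsg.Agent.H1.Cores

/-!
Generic tools for the configuration with an `A₄`-quotient.
-/

set_option autoImplicit false
set_option linter.unusedSectionVars false
set_option linter.style.haveILetI false

open Subgroup
open scoped commutatorElement

namespace H75.CSy

universe u

variable {K : Type u} [Group K] [Finite K]

omit [Finite K] in
theorem exists_abelian_normal' [Nontrivial K] (hs : Group.IsSolvable K) :
    ∃ A : Subgroup K, A.Normal ∧ A ≠ ⊥ ∧ ∀ a ∈ A, ∀ b ∈ A, a * b = b * a := by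
  classical
  obtain ⟨n, hn⟩ := (Group.isSolvable_def K).1 hs
  have hex : ∃ n, derivedSeries K n = ⊥ := ⟨n, hn⟩
  have h0 : Nat.find hex ≠ 0 := fun h => by
    have := Nat.find_spec hex
    rw [h, derivedSeries_zero] at this
    exact top_ne_bot this
  obtain ⟨m, hm⟩ := Nat.exists_eq_succ_of_ne_zero h0
  refine ⟨derivedSeries K m, derivedSeries_normal K m, Nat.find_min hex (by omega),
    fun a ha b hb => ?_⟩
  have h1 : ⁅a, b⁆ ∈ derivedSeries K (m + 1) := by
    rw [derivedSeries_succ]
    exact commutator_mem_commutator ha hb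
  rw [show m + 1 = Nat.find hex from hm.symm, Nat.find_spec hex, mem_bot] at h1
  exact commutatorElement_eq_one_iff_mul_comm.1 h1

/-- The derived group centralises every cyclic normal subgroup. -/
theorem derived_le_centralizer {N : Subgroup K} [N.Normal] (hN : IsCyclic N) :
    commutator K ≤ centralizer (N : Set K) := by
  obtain ⟨d, hd⟩ := (Subgroup.isCyclic_iff_exists_zpowers_eq_top N).1 hN
  have hnorm : ∀ a : K, a ∈ normalizer (zpowers d : Set K) := fun a =>
    mem_normalizer_iff' fun x hx => by
      rw [hd] at hx ⊢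
      exact (inferInstance : N.Normal).conj_mem x hx a
  rw [commutator_def, commutator_le]
  intro a _ b _
  rw [← hd, zpowers_eq_closure, centralizer_closure]
  exact mem_centralizer_singleton_iff.2 (commutator_commute (hnorm a) (hnorm b)).eq

/-- An involution in the derived group centralises every normal Z-subgroup of odd order. -/
theorem invol_centralizes {F : Subgroup K} [F.Normal] [IsZGroup F] (hF : Odd (Nat.card F)) {x : K}
    (hx : x * x = 1) (hxd : x ∈ commutator K) : ∀ f ∈ F, Commute x f := by
  set D : Subgroup K := (commutator F).map F.subtype with hD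
  haveI : D.Normal := H1.map_subtype_normal_of_characteristic F _
  haveI hDc : IsCyclic D := by
    haveI := IsZGroup.isCyclic_commutator (G := F)
    exact isCyclic_of_surjective
      ((commutator F).equivMapOfInjective _ F.subtype_injective).toMonoidHom
      (MulEquiv.surjective _)
  intro f hf
  set π := QuotientGroup.mk' D with hπ
  haveI hFn : (F.map π).Normal :=
    (inferInstance : F.Normal).map π (QuotientGroup.mk'_surjective D)
  have hFc : IsCyclic (F.map π) := by
    haveI : IsCyclic (F ⧸ commutator F) := IsZGroup.isCyclic_abelianization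
    refine isCyclic_of_surjective
      (QuotientGroup.lift (commutator F) ((π.comp F.subtype).codRestrict (F.map π)
        fun a => ⟨a, a.2, rfl⟩) ?_) ?_
    · intro a ha
      rw [MonoidHom.mem_ker]
      refine Subtype.ext ?_
      show π (a : K) = 1
      exact (QuotientGroup.eq_one_iff _).2 ⟨a, ha, rfl⟩
    · rintro ⟨_, a, ha, rfl⟩
      exact ⟨QuotientGroup.mk ⟨a, ha⟩, rfl⟩
  have hxq : π x ∈ commutator (K ⧸ D) := by
    have : (commutator K).map π ≤ commutator (K ⧸ D) := by
      rw [commutator_def, commutator_def, map_commutator]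
      exact commutator_mono le_top le_top
    exact this ⟨x, hxd, rfl⟩
  have h1 : π f * π x = π x * π f :=
    mem_centralizer_iff.1 (derived_le_centralizer hFc hxq) _ ⟨f, hf, rfl⟩
  have h2 : f⁻¹ * (x * f * x⁻¹) ∈ D := by
    rw [← QuotientGroup.eq_one_iff, ← QuotientGroup.mk'_apply, ← hπ, map_mul, map_mul, map_mul,
      map_inv, map_inv, ← h1, mul_inv_cancel_right, inv_mul_cancel]
  refine cj_eq_iff_commute.1 (commute_of_invol (a := f⁻¹ * (x * f * x⁻¹)) hx
    (by rw [mul_inv_cancel_left])
    (cj_eq_iff_commute.2 (mem_centralizer_iff.1 (derived_le_centralizer hDc hxd) _ h2).symm)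
    (odd_orderOf_of_mem hF ?_))
  exact mul_mem (inv_mem hf) ((inferInstance : F.Normal).conj_mem f hf x)

/-- The orbit of an element under conjugation by a subgroup. -/
theorem card_conj_mul (H : Subgroup K) (x : K) :
    Nat.card {u : K // ∃ g ∈ H, g * x * g⁻¹ = u} * Nat.card (H ⊓ centralizer ({x} : Set K) :
      Subgroup K) = Nat.card H := by
  set T := (centralizer ({x} : Set K)).subgroupOf H with hT
  have key : ∀ a b : H, (a : K) * x * (a : K)⁻¹ = (b : K) * x * (b : K)⁻¹ ↔ a⁻¹ * b ∈ T := by
    intro a b
    rw [hT, mem_subgroupOf, mem_centralizer_singleton_iff]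
    constructor
    · intro e
      show (a : K)⁻¹ * b * x = x * ((a : K)⁻¹ * b)
      calc (a : K)⁻¹ * b * x = (a : K)⁻¹ * ((b : K) * x * (b : K)⁻¹) * b := by group
        _ = x * ((a : K)⁻¹ * b) := by rw [← e]; group
    · intro e
      have e' : (a : K)⁻¹ * b * x = x * ((a : K)⁻¹ * b) := e
      calc (a : K) * x * (a : K)⁻¹ = (a : K) * (x * ((a : K)⁻¹ * b)) * (b : K)⁻¹ := by group
        _ = (b : K) * x * (b : K)⁻¹ := by rw [← e']; group
  let f : H ⧸ T → {u : K // ∃ g ∈ H, g * x * g⁻¹ = u} := fun q =>
    Quotient.liftOn' q (fun a => ⟨(a : K) * x * (a : K)⁻¹, a, a.2, rfl⟩)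
      fun a b hab => Subtype.ext ((key a b).2 (QuotientGroup.leftRel_apply.1 hab))
  have hf : Function.Bijective f := by
    constructor
    · intro q₁ q₂
      induction q₁ using QuotientGroup.induction_on with
      | _ a =>
        induction q₂ using QuotientGroup.induction_on with
        | _ b =>
          intro e
          exact QuotientGroup.eq.2 ((key a b).1 (congrArg Subtype.val e))
    · rintro ⟨u, g, hg, rfl⟩
      exact ⟨QuotientGroup.mk ⟨g, hg⟩, rfl⟩
  rw [← Nat.card_congr (Equiv.ofBijective f hf), ← index_eq_card, mul_comm,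
    ← Nat.card_congr (subgroupOfEquivOfLe (inf_le_left : H ⊓ centralizer ({x} : Set K) ≤ H)).toEquiv]
  rw [show (H ⊓ centralizer ({x} : Set K)).subgroupOf H = T by rw [hT, inf_subgroupOf_left]]
  exact T.card_mul_index

end H75.CSy
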