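import Cfsg.Agent.H75.CSy.Local
import Cfsg.Agent.H75.CSy.Tools

/-!
A solvable centraliser of an element inverted by the rotation gives the configuration `DihBad`.
-/

set_option autoImplicit false
set_option linter.unusedSectionVars false
set_option linter.style.haveILetI false

open Cfsg Subgroup H76.CSy H68

namespace H75.CSy

universe u

variable {G : Type u} [Group G] [Finite G]

/-- A subgroup consisting of the products `A * W` with `A` and `W` meeting trivially. -/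
theorem card_of_decomp {A W V : Subgroup G} (hA : A ≤ V) (hW : W ≤ V)
    (hdisj : ∀ x ∈ A, x ∈ W → x = 1) (hdec : ∀ g ∈ V, ∃ a ∈ A, ∃ w ∈ W, a * w = g) :
    Nat.card V = Nat.card A * Nat.card W := by
  let f : A × W → V := fun x => ⟨(x.1 : G) * (x.2 : G), mul_mem (hA x.1.2) (hW x.2.2)⟩
  have hf : Function.Bijective f := by
    constructor
    · rintro ⟨⟨o, ho⟩, ⟨s, hs⟩⟩ ⟨⟨o', ho'⟩, ⟨s', hs'⟩⟩ e
      have e' : o * s = o' * s' := congrArg Subtype.val e
      have h1 : o'⁻¹ * o = s' * s⁻¹ := by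
        rw [eq_mul_inv_iff_mul_eq, mul_assoc, e', inv_mul_cancel_left]
      have h2 : o'⁻¹ * o = 1 :=
        hdisj _ (mul_mem (inv_mem ho') ho) (h1 ▸ mul_mem hs' (inv_mem hs))
      rw [h2, eq_comm, mul_inv_eq_one] at h1
      obtain rfl : o' = o := inv_mul_eq_one.1 h2
      subst h1; rfl
    · rintro ⟨g, hg⟩
      obtain ⟨o, ho, s, hs, rfl⟩ := hdec g hg
      exact ⟨(⟨o, ho⟩, ⟨s, hs⟩), rfl⟩
  rw [← Nat.card_congr (Equiv.ofBijective f hf), Nat.card_prod]

namespace Cfg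

variable {S : Sylow 2 G} {c : G} {h : Cfg S c} {p : ℕ} {y τ : G}

theorem Inv.four_case (d : Inv h p y τ) (hs : Group.IsSolvable (centralizer ({y} : Set G))) :
    orderOf c = 4 ∧ (∀ o ∈ core c, Commute o τ) ∧
      ∀ u : G, orderOf u = 2 → Commute u y → u = dz c ∨ u = τ ∨ u = dz c * τ := by
  haveI : Fact (Nat.Prime 2) := ⟨Nat.prime_two⟩
  set H := centralizer ({y} : Set G) with hH
  set F := oddCore H with hF
  haveI hFn : F.Normal := H1.pPrimeCore_normal' 2 H
  have hFodd : Odd (Nat.card F) := Nat.coprime_two_right.1 (H1.card_pPrimeCore_coprime 2 H)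
  haveI hFZ : IsZGroup F := by
    haveI := isZGroup_of_odd h.hyp.odd (F.map H.subtype)
      (by rwa [card_map_of_injective H.subtype_injective])
    exact IsZGroup.of_injective
      (f := (F.equivMapOfInjective _ H.subtype_injective).toMonoidHom) (MulEquiv.injective _)
  set π := QuotientGroup.mk' F with hπ
  have hπ1 : ∀ x : H, π x = 1 ↔ x ∈ F := fun x => QuotientGroup.eq_one_iff x
  set t' : H := ⟨dz c, d.t_H⟩ with ht'
  set τ' : H := ⟨τ, d.τ_H⟩ with hτ'
  have ht2 : orderOf t' = 2 := by rw [ht', Subgroup.orderOf_mk]; exact h.dih.dz_two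
  have htF : t' ∉ F := fun e => by
    have := Subgroup.orderOf_dvd_natCard F e
    rw [ht2] at this
    exact Nat.not_even_iff_odd.2 hFodd (even_iff_two_dvd.2 this)
  haveI : Nontrivial (H ⧸ F) := ⟨⟨π t', 1, fun e => htF ((hπ1 _).1 e)⟩⟩
  haveI := hs
  obtain ⟨A, hAn, hA1, hAc⟩ := exists_abelian_normal' (K := H ⧸ F)
    (Group.isSolvable_of_surjective (QuotientGroup.mk'_surjective F))
  -- `A` is a `2`-group
  have hA2 : ∀ a ∈ A, ∃ k : ℕ, a ^ 2 ^ k = 1 := by
    let A' : Subgroup (H ⧸ F) :=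
      { carrier := {a | a ∈ A ∧ Odd (orderOf a)}
        one_mem' := ⟨one_mem _, by rw [orderOf_one]; exact odd_one⟩
        mul_mem' := fun {a b} ha hb => ⟨mul_mem ha.1 hb.1,
          (ha.2.mul hb.2).of_dvd_nat (Commute.orderOf_mul_dvd_mul_orderOf (hAc a ha.1 b hb.1))⟩
        inv_mem' := fun {a} ha => ⟨inv_mem ha.1, by rw [orderOf_inv]; exact ha.2⟩ }
    haveI : A'.Normal := ⟨fun a ha g => ⟨hAn.conj_mem a ha.1 g, by
      rw [← MulAut.conj_apply, MulEquiv.orderOf_eq]; exact ha.2⟩⟩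
    have hA' : A' ≤ ⊥ := by
      rw [← H1.pPrimeCore_quotient_pPrimeCore 2 (G := H)]
      exact H1.le_pPrimeCore (Nat.coprime_two_right.2 (odd_card_of_orderOf fun a ha => ha.2))
    intro a ha
    obtain ⟨u, v, huv, hu, hv, -, hv'⟩ := H5.exists_p_decomposition (p := 2) a
    have : v ∈ A' := ⟨zpowers_le.2 ha hv', Nat.coprime_two_right.1 hv⟩
    rw [mem_bot.1 (hA' this), mul_one] at huv
    exact huv ▸ hu
  have hsep : ∀ x : H, π x ∈ A → Odd (orderOf x) → x ∈ F := by
    intro x hx ho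
    obtain ⟨k, hk⟩ := hA2 _ hx
    exact (hπ1 x).1 (eq_one_of_odd_of_two_pow (ho.of_dvd_nat (orderOf_map_dvd π x)) hk)
  -- every involution of `C(y)` maps into `A`
  have hinvA : ∀ u : H, u * u = 1 → π u ∈ A := by
    intro u hu
    by_cases hu1 : u = 1
    · rw [hu1, map_one]; exact one_mem _
    obtain ⟨a, ha, ha1⟩ := (Subgroup.bot_or_exists_ne_one A).resolve_left hA1
    obtain ⟨k, hk⟩ := hA2 a ha
    have h2 : 2 ∣ orderOf a := by
      obtain ⟨i, -, hi⟩ := (Nat.dvd_prime_pow Nat.prime_two).1 (orderOf_dvd_of_pow_eq_one hk)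
      rw [hi]
      exact dvd_pow_self 2 fun e => ha1 (orderOf_eq_one_iff.1 (by rw [hi, e, pow_zero]))
    have hb2 : orderOf (a ^ (orderOf a / 2)) = 2 := orderOf_pow_orderOf_div (orderOf_pos a).ne' h2
    obtain ⟨g, hg⟩ := QuotientGroup.mk'_surjective F (a ^ (orderOf a / 2))
    have hsq2 : (a ^ (orderOf a / 2)) ^ 2 = 1 :=
      orderOf_dvd_iff_pow_eq_one.1 (dvd_of_eq hb2)
    have hg2 : g ^ 2 ∈ F := (hπ1 _).1 (by rw [map_pow, hπ, hg, hsq2])
    set j := Nat.card F with hj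
    have hw2 : g ^ j * g ^ j = 1 := by
      rw [← pow_two, ← pow_mul, mul_comm, pow_mul]
      exact congrArg Subtype.val (pow_card_eq_one' (x := (⟨g ^ 2, hg2⟩ : F)))
    have hwπ : π (g ^ j) = a ^ (orderOf a / 2) := by
      obtain ⟨r, hr⟩ : Odd j := hFodd
      rw [map_pow, hπ, hg, hr, pow_succ, pow_mul, hsq2, one_pow, one_mul]
    have hw1 : g ^ j ≠ 1 := fun e => by
      rw [e, map_one] at hwπ
      rw [← hwπ, orderOf_one] at hb2
      omega
    have hwA : π (g ^ j) ∈ A := by rw [hwπ]; exact pow_mem ha _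
    obtain ⟨b, hb, hbw⟩ := d.one_H (u := ((g ^ j : H) : G))
      (by rw [Subgroup.orderOf_coe]; exact H65.two_iff.2 ⟨hw2, hw1⟩)
      (mem_centralizer_singleton_iff.1 (g ^ j).2)
    obtain ⟨b', hb', hbu⟩ := d.one_H (u := (u : G))
      (by rw [Subgroup.orderOf_coe]; exact H65.two_iff.2 ⟨hu, hu1⟩)
      (mem_centralizer_singleton_iff.1 u.2)
    have hcj : u = (⟨b'⁻¹ * b, mem_centralizer_singleton_iff.2 (hb'.inv_left.mul_left hb).eq⟩ : H) *
        g ^ j * (⟨b'⁻¹ * b, mem_centralizer_singleton_iff.2 (hb'.inv_left.mul_left hb).eq⟩ : H)⁻¹ :=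
      Subtype.ext (by
        show (u : G) = b'⁻¹ * b * ((g ^ j : H) : G) * (b'⁻¹ * b)⁻¹
        rw [show b'⁻¹ * b * ((g ^ j : H) : G) * (b'⁻¹ * b)⁻¹
          = b'⁻¹ * (b * ((g ^ j : H) : G) * b⁻¹) * b' by group, hbw, ← hbu]
        group)
    rw [hcj, map_mul, map_mul, map_inv]
    exact hAn.conj_mem _ hwA _
  have htt' : t' * t' = 1 := Subtype.ext d.tt
  have hττ' : τ' * τ' = 1 := Subtype.ext d.ττ
  -- the rotation has order four
  set τ₂ : H := ⟨τ * (c * c), d.shift.τ_H⟩ with hτ₂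
  have hc4 : orderOf c = 4 := by
    have hττ₂ : τ₂ * τ₂ = 1 := Subtype.ext d.shift.ττ
    have hz : τ' * τ₂ * (τ' * τ₂) ∈ F := (hπ1 _).1 (by
      rw [map_mul, map_mul, mul_assoc, ← mul_assoc (π τ₂),
        hAc _ (hinvA τ₂ hττ₂) _ (hinvA τ' hττ'), mul_assoc (π τ'), ← map_mul π τ₂ τ₂,
        hττ₂, map_one, mul_one, ← map_mul, hττ', map_one])
    have hv : (τ' * τ₂ * (τ' * τ₂) : G) = c * c * (c * c) := by
      show τ * (τ * (c * c)) * (τ * (τ * (c * c))) = _
      rw [← mul_assoc τ τ, d.ττ, one_mul]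
    have h1 : c * c * (c * c) = 1 := by
      obtain ⟨k, hk⟩ := S.2 ⟨c * c * (c * c),
        mul_mem (mul_mem h.dih.mem h.dih.mem) (mul_mem h.dih.mem h.dih.mem)⟩
      refine eq_one_of_odd_of_two_pow ?_ (congrArg Subtype.val hk)
      rw [← hv]
      show Odd (orderOf (((τ' * τ₂ * (τ' * τ₂) : H)) : G))
      rw [Subgroup.orderOf_coe]
      exact odd_orderOf_of_mem hFodd hz
    exact Nat.dvd_antisymm
      (orderOf_dvd_of_pow_eq_one (by rw [← h1]; simp [pow_succ, mul_assoc])) d.four_dvd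
  -- the involutions centralise the core of `C(y)`
  have hder : t' ∈ commutator H ∧ τ' ∈ commutator H := by
    have hle : ⁅H, H⁆ ≤ (commutator H).map H.subtype := by
      rw [commutator_def, map_commutator, ← MonoidHom.range_eq_map, Subgroup.range_subtype]
    constructor
    · obtain ⟨a, ha, e⟩ := hle d.mem_derived.1
      rwa [show t' = a from Subtype.ext e.symm]
    · obtain ⟨a, ha, e⟩ := hle d.mem_derived.2
      rwa [show τ' = a from Subtype.ext e.symm]
  have htc := invol_centralizes hFodd htt' hder.1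
  have hτc := invol_centralizes hFodd hττ' hder.2
  have hcomm : ∀ (u w : H), w * w = 1 → π u ∈ A → π w ∈ A →
      (∀ f ∈ F, Commute w f) → Commute u w := by
    intro u w hw hu' hw' hwc
    have hv : u * w * u⁻¹ * w⁻¹ ∈ F := (hπ1 _).1 (by
      rw [map_mul, map_mul, map_mul, map_inv, map_inv, hAc _ hu' _ hw', mul_inv_cancel_right,
        mul_inv_cancel])
    refine cj_eq_iff_commute.1 (mul_inv_eq_one.1 (eq_one_of_sq_of_odd ?_
      (odd_orderOf_of_mem hFodd hv)))
    have hsq : (u * w * u⁻¹) * (u * w * u⁻¹) = 1 := by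
      rw [show (u * w * u⁻¹) * (u * w * u⁻¹) = u * (w * w) * u⁻¹ by group, hw]; group
    calc u * w * u⁻¹ * w⁻¹ * (u * w * u⁻¹ * w⁻¹)
        = u * w * u⁻¹ * (w⁻¹ * (u * w * u⁻¹ * w⁻¹)) := by group
      _ = u * w * u⁻¹ * (u * w * u⁻¹ * w⁻¹ * w⁻¹) := by rw [(hwc _ hv).inv_left.eq]
      _ = (u * w * u⁻¹) * (u * w * u⁻¹) * (w * w)⁻¹ := by group
      _ = 1 := by rw [hsq, hw, inv_one, mul_one]
  refine ⟨hc4, fun o ho => ?_, fun u hu huy => ?_⟩
  · set o' : H := ⟨o, mem_centralizer_singleton_iff.2 (h.core_commute d.free ho d.mem).eq⟩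
    have haA : π (o'⁻¹ * (τ' * o' * τ'⁻¹)) ∈ A := by
      rw [show o'⁻¹ * (τ' * o' * τ'⁻¹) = (o'⁻¹ * τ' * o'⁻¹⁻¹) * τ'⁻¹ by group, map_mul, map_mul,
        map_mul, map_inv π τ', map_inv π o'⁻¹]
      exact mul_mem (hAn.conj_mem _ (hinvA τ' hττ') _) (inv_mem (hinvA τ' hττ'))
    have hodd : Odd (orderOf (o'⁻¹ * (τ' * o' * τ'⁻¹))) := by
      rw [← Subgroup.orderOf_coe]
      exact core_odd' (mul_mem (inv_mem ho) (h.core_cj d.τ_mem ho))
    have h1 := commute_of_invol (x := τ') (f := o') (a := o'⁻¹ * (τ' * o' * τ'⁻¹)) hττ'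
      (by rw [mul_inv_cancel_left]) (cj_eq_iff_commute.2 (hτc _ (hsep _ haA hodd))) hodd
    exact (cj_eq_iff_commute.1 (congrArg Subtype.val h1 : τ * o * τ⁻¹ = o)).symm
  · set u' : H := ⟨u, mem_centralizer_singleton_iff.2 huy.eq⟩
    have huu : u' * u' = 1 := Subtype.ext (H65.mul_self_of_two hu)
    have hut : Commute u (dz c) := congrArg Subtype.val
      (hcomm u' t' htt' (hinvA u' huu) (hinvA t' htt') htc).eq
    have huτ : Commute u τ := congrArg Subtype.val
      (hcomm u' τ' hττ' (hinvA u' huu) (hinvA τ' hττ') hτc).eq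
    obtain ⟨o, ho, hoτ, s, hs, rfl⟩ :=
      d.cent_four (mem_centralizer_singleton_iff.2 hut.eq) huτ
    have hos : Commute o s ∧ s * s = 1 := by
      have hot : Commute o (dz c) := core_comm ho
      rcases hs with rfl | rfl | rfl | rfl
      · exact ⟨Commute.one_right _, one_mul _⟩
      · exact ⟨hot, d.tt⟩
      · exact ⟨hoτ, d.ττ⟩
      · refine ⟨hot.mul_right hoτ, ?_⟩
        rw [show dz c * τ * (dz c * τ) = dz c * (τ * dz c) * τ by group, h.dih.dz_comm d.τ_mem,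
          ← mul_assoc, d.tt, one_mul, d.ττ]
    have h2 := H65.mul_self_of_two hu
    rw [show o * s * (o * s) = o * (s * o) * s by group, ← hos.1.eq,
      show o * (o * s) * s = o * o * (s * s) by group, hos.2, mul_one] at h2
    rw [eq_one_of_sq_of_odd h2 (core_odd' ho), one_mul] at hu ⊢
    exact hs.resolve_left (H65.ne_one_of_two hu)

end Cfg

end H75.CSy
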