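import Cfsg.Agent.H75.CSy.Setup
import Cfsg.Agent.H1.CoprimeAction
import Mathlib.Data.Nat.Factorization.Basic

/-!
When no nontrivial element of the core centralises `S`, the core is cyclic and either the rotation
inverts an element of prime order or the core is inverted by all reflections.
-/

set_option autoImplicit false
set_option linter.unusedSectionVars false
set_option linter.style.haveILetI false

open Cfsg Subgroup H76.CSy H68

namespace H75.CSy

universe u

variable {G : Type u} [Group G] [Finite G]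

theorem eq_of_sylow {M K : Subgroup G} (hMK : M ≤ K)
    (hall : ∀ q : ℕ, q.Prime → ∃ Q : Sylow q K, (Q : Subgroup K).map K.subtype ≤ M) : M = K := by
  refine eq_of_le_of_card_ge hMK (Nat.le_of_dvd Nat.card_pos ?_)
  refine (Nat.dvd_iff_prime_pow_dvd_dvd _ _).2 fun q k hq hk => ?_
  haveI : Fact q.Prime := ⟨hq⟩
  obtain ⟨Q, hQ⟩ := hall q hq
  have h1 := card_dvd_of_le hQ
  rw [card_map_of_injective K.subtype_injective] at h1
  exact (Q.pow_dvd_card_of_pow_dvd_card hk).trans h1

namespace Cfg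

variable {S : Sylow 2 G} {c : G} (h : Cfg S c)
include h

theorem of_reflections {P : G → Prop} (hmul : ∀ a b, P a → P b → P (a * b))
    (href : ∀ x ∈ (S : Subgroup G), x ∉ zpowers c → P x) {s : G} (hs : s ∈ (S : Subgroup G)) :
    P s := by
  by_cases hsA : s ∈ zpowers c
  · obtain ⟨x, hx, hxA⟩ := h.dih.exists_out
    have h1 : s * x ∉ zpowers c := fun e => hxA (((zpowers c).mul_mem_cancel_left hsA).1 e)
    have := hmul _ _ (href _ (mul_mem hs hx) h1) (href _ hx hxA)
    rwa [mul_assoc, h.dih.invol x hx hxA, mul_one] at this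
  · exact href s hs hsA

theorem free_of_reflections (hR : h.Free) {y : G} (hy : y ∈ core c)
    (hfix : ∀ x ∈ (S : Subgroup G), x ∉ zpowers c → Commute x y) : y = 1 :=
  hR y hy fun _ hs => h.of_reflections (fun _ _ ha hb => ha.mul_left hb) hfix hs

theorem core_cyclic (hR : h.Free) : IsCyclic (core c) := by
  haveI : IsZGroup (core c) := isZGroup_of_odd h.hyp.odd _ core_odd
  set O := core c with hO
  set D : Subgroup G := (commutator O).map O.subtype with hD
  haveI hcycD : IsCyclic D := by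
    haveI := IsZGroup.isCyclic_commutator (G := O)
    exact isCyclic_of_surjective
      ((commutator O).equivMapOfInjective _ O.subtype_injective).toMonoidHom
      (MulEquiv.surjective _)
  have hDn : ∀ g : G, (∀ x ∈ O, g * x * g⁻¹ ∈ O) → g ∈ normalizer (D : Set G) := by
    intro g hg
    have hD' : D = ⁅O, O⁆ := by
      rw [hD, commutator_def, map_commutator, ← MonoidHom.range_eq_map, Subgroup.range_subtype]
    refine mem_normalizer_iff' fun x hx => ?_
    have h1 : (⁅O, O⁆).map (MulAut.conj g).toMonoidHom ≤ ⁅O, O⁆ := by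
      rw [map_commutator]
      refine commutator_mono ?_ ?_ <;> (rintro _ ⟨a, ha, rfl⟩; exact hg a ha)
    rw [hD'] at hx ⊢
    exact h1 ⟨x, hx, rfl⟩
  obtain ⟨d₀, hd₀⟩ := (Subgroup.isCyclic_iff_exists_zpowers_eq_top D).1 hcycD
  have hgN : ∀ g : G, (∀ x ∈ O, g * x * g⁻¹ ∈ O) → g ∈ normalizer (zpowers d₀ : Set G) :=
    fun g hg => by rw [hd₀]; exact hDn g hg
  have hM : O ⊓ centralizer (D : Set G) = O := by
    refine eq_of_sylow inf_le_left fun q hq => ?_
    haveI : Fact q.Prime := ⟨hq⟩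
    have hcop : (Nat.card (S : Subgroup G)).Coprime (Nat.card O) := by
      obtain ⟨e, he⟩ := S.2.exists_card_eq
      rw [he]
      exact (Nat.coprime_two_left.2 core_odd).pow_left e
    obtain ⟨Q, hQ⟩ := H1.exists_invariant_sylow (A := (S : Subgroup G)) (K := O)
      (h.S_le.trans core_norm) hcop (Or.inl (by haveI := S.2.isNilpotent; infer_instance)) q
    refine ⟨Q, le_inf (map_subtype_le _) fun a ha => ?_⟩
    set Q' := (Q : Subgroup O).map O.subtype with hQ'
    by_cases hq2 : q = 2
    · subst hq2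
      obtain ⟨k, hk⟩ := (Q.2.map O.subtype) ⟨a, ha⟩
      rw [eq_one_of_odd_of_two_pow (core_odd' (c := c) (map_subtype_le _ ha))
        (congrArg Subtype.val hk)]
      exact one_mem _
    have hQc : IsCyclic Q' := isCyclic_of_isPGroup (h.hyp.odd q hq hq2) (Q.2.map _)
    by_cases ha1 : a = 1
    · rw [ha1]; exact one_mem _
    obtain ⟨x, hx, hxA, hxinv⟩ : ∃ x ∈ (S : Subgroup G), x ∉ zpowers c ∧
        ∀ b ∈ Q', x * b * x⁻¹ = b⁻¹ := by
      by_contra hne
      push Not at hne
      refine ha1 (h.free_of_reflections hR (map_subtype_le _ ha) fun x hx hxA => ?_)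
      rcases invol_pm hQc ⟨hq, hq2⟩ (Q.2.map _) (h.dih.invol x hx hxA) (hQ hx) with e | e
      · exact cj_eq_iff_commute.1 (e a ha)
      · obtain ⟨b, hb, hb'⟩ := hne x hx hxA
        exact absurd (e b hb) hb'
    have h1 : Commute (a⁻¹ * a⁻¹) d₀ := by
      have := commutator_commute (y := d₀) (hgN x fun z hz => h.core_cj hx hz)
        (hgN a fun z hz => mul_mem (mul_mem (map_subtype_le _ ha) hz)
          (inv_mem (map_subtype_le _ ha)))
      rwa [hxinv a ha] at this
    have h2 : a⁻¹ ∈ centralizer ({d₀} : Set G) := by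
      refine mem_of_pow_coprime (a := 2) ?_ (by rw [pow_two]; exact mem_centralizer_singleton_iff.2 h1.eq)
      rw [orderOf_inv]
      exact Nat.coprime_two_left.2 (core_odd' (map_subtype_le _ ha))
    rw [← hd₀, centralizer_zpowers']
    exact (Subgroup.inv_mem_iff _).1 h2
  have hle : commutator O ≤ center O := fun d hd => mem_center_iff.2 fun g => Subtype.ext
    (mem_centralizer_iff.1 (hM.ge g.2).2 d ⟨d, hd, rfl⟩).symm
  haveI : IsCyclic (O ⧸ center O) := by
    haveI : IsCyclic (O ⧸ commutator O) := IsZGroup.isCyclic_abelianization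
    refine isCyclic_of_surjective
      (QuotientGroup.map (commutator O) (center O) (MonoidHom.id O) hle) ?_
    intro q
    obtain ⟨g, rfl⟩ := QuotientGroup.mk_surjective q
    exact ⟨g, rfl⟩
  have hab := isMulCommutative_of_isCyclic_quotient_center_self (G := O)
  haveI : Group.IsNilpotent O := by
    letI : CommGroup O := { (inferInstance : Group O) with mul_comm := hab.is_comm.comm }
    exact CommGroup.isNilpotent
  infer_instance
where
  centralizer_zpowers' {y : G} : centralizer (zpowers y : Set G) = centralizer ({y} : Set G) := by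
    rw [zpowers_eq_closure, centralizer_closure]

theorem core_commute (hR : h.Free) {a b : G} (ha : a ∈ core c) (hb : b ∈ core c) : Commute a b :=
  centralizes_of_isCyclic (h.core_cyclic hR) ha hb

theorem S_normalizes (hR : h.Free) {g y : G} (hg : g ∈ centralizer ({dz c} : Set G))
    (hy : y ∈ core c) : g ∈ normalizer (zpowers y : Set G) :=
  normalizer_zpowers_of_cyclic (h.core_cyclic hR) (core_norm hg) hy

theorem reflection_pm (hR : h.Free) {p : ℕ} (hp : p.Prime) (hp2 : p ≠ 2) {y : G}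
    (hy : y ∈ core c) (hyo : orderOf y = p) {x : G} (hx : x ∈ (S : Subgroup G))
    (hxA : x ∉ zpowers c) : Commute x y ∨ x * y * x⁻¹ = y⁻¹ := by
  rcases invol_pm (P := zpowers y) inferInstance ⟨hp, hp2⟩
    (IsPGroup.of_card (n := 1) (by rw [Nat.card_zpowers, hyo, pow_one]))
    (h.dih.invol x hx hxA) (h.S_normalizes hR (h.S_le hx) hy) with e | e
  · exact Or.inl (cj_eq_iff_commute.1 (e y (mem_zpowers y)))
  · exact Or.inr (e y (mem_zpowers y))

theorem exists_prime_power_mem {z : G} (hz : z ∈ core c) (hz1 : z ≠ 1) :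
    ∃ (p : ℕ) (k : ℕ), p.Prime ∧ p ≠ 2 ∧ orderOf (z ^ k) = p := by
  obtain ⟨p, hp, hpd⟩ := Nat.exists_prime_and_dvd (mt orderOf_eq_one_iff.1 hz1)
  refine ⟨p, orderOf z / p, hp, ?_, orderOf_pow_orderOf_div (orderOf_pos z).ne' hpd⟩
  rintro rfl
  exact Nat.not_even_iff_odd.2 (core_odd' hz) (even_iff_two_dvd.2 hpd)

/-- The dichotomy for the action of `S` on the core. -/
theorem split (hR : h.Free) :
    (∃ (p : ℕ) (y : G), p.Prime ∧ p ≠ 2 ∧ orderOf y = p ∧ y ∈ core c ∧ c * y * c⁻¹ = y⁻¹) ∨
    ((∀ o ∈ core c, Commute c o) ∧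
      ∀ x ∈ (S : Subgroup G), x ∉ zpowers c → ∀ o ∈ core c, x * o * x⁻¹ = o⁻¹) := by
  by_cases hcase : ∃ (p : ℕ) (y : G), p.Prime ∧ p ≠ 2 ∧ orderOf y = p ∧ y ∈ core c ∧
      c * y * c⁻¹ = y⁻¹
  · exact Or.inl hcase
  push Not at hcase
  right
  obtain ⟨x₀, hx₀, hx₀A⟩ := h.dih.exists_out
  have hxc : ∀ {x}, x ∉ zpowers c → x * c ∉ zpowers c := fun {x} hxA e =>
    hxA (((zpowers c).mul_mem_cancel_right (mem_zpowers c)).1 e)
  -- no reflection fixes an element of prime order
  have hfpf : ∀ x ∈ (S : Subgroup G), x ∉ zpowers c → ∀ z ∈ core c, Commute x z → z = 1 := by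
    intro x hx hxA z hz hxz
    by_contra hz1
    obtain ⟨p, k, hp, hp2, ho⟩ := h.exists_prime_power_mem hz hz1
    set y := z ^ k
    have hy : y ∈ core c := pow_mem hz k
    have hxy : Commute x y := hxz.pow_right k
    have hcy : Commute c y := by
      rcases h.reflection_pm hR hp hp2 hy ho (mul_mem hx h.dih.mem) (hxc hxA) with e | e
      · have := hxy.inv_left.mul_left e
        rwa [inv_mul_cancel_left] at this
      · exfalso
        refine hcase p y hp hp2 ho hy ?_
        calc c * y * c⁻¹ = x⁻¹ * (x * c * y * (x * c)⁻¹) * x := by group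
          _ = x⁻¹ * (y⁻¹ * x) := by rw [e, mul_assoc]
          _ = y⁻¹ := by rw [← hxy.inv_right.eq, inv_mul_cancel_left]
    have hy1 : y = 1 := h.free_of_reflections hR hy fun x' hx' hx'A => by
      obtain ⟨i, hi⟩ := mem_zpowers_iff.1 (h.dih.idx x hx x' hx' hxA hx'A)
      have : x' = x * c ^ i := by rw [hi, ← mul_assoc, h.dih.invol x hx hxA, one_mul]
      rw [this]
      exact hxy.mul_left (hcy.zpow_left i)
    rw [hy1, orderOf_one] at ho
    exact hp.ne_one ho.symm
  have hinv : ∀ x ∈ (S : Subgroup G), x ∉ zpowers c → ∀ o ∈ core c, x * o * x⁻¹ = o⁻¹ := by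
    intro x hx hxA o ho
    have hxx := h.dih.invol x hx hxA
    refine eq_inv_of_mul_eq_one_left (hfpf x hx hxA _ (mul_mem (h.core_cj hx ho) ho) ?_)
    refine cj_eq_iff_commute.1 ?_
    calc x * (x * o * x⁻¹ * o) * x⁻¹ = (x * x) * o * (x * x)⁻¹ * (x * o * x⁻¹) := by group
      _ = o * (x * o * x⁻¹) := by rw [hxx]; group
      _ = x * o * x⁻¹ * o := (h.core_commute hR ho (h.core_cj hx ho)).eq
  refine ⟨fun o ho => cj_eq_iff_commute.1 ?_, hinv⟩
  have e1 := hinv _ (mul_mem hx₀ h.dih.mem) (hxc hx₀A) o ho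
  have e2 := hinv _ hx₀ hx₀A o ho
  calc c * o * c⁻¹ = x₀⁻¹ * (x₀ * c * o * (x₀ * c)⁻¹) * x₀ := by group
    _ = x₀⁻¹ * (x₀ * o * x₀⁻¹) * x₀ := by rw [e1, e2]
    _ = o := by group

end Cfg

end H75.CSy
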